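/- Groups of order 64 as tables (generated). -/
import Cfsg.Agent.SPOR.A10.Reg
set_option autoImplicit false
set_option maxRecDepth 100000

namespace CL.S64.T000.Ef
open CL.CE CL.K

noncomputable def tT0 : ℕ := nat_lit 0x7d766f6453875e42314d3c20102b1a09
noncomputable def tJ0 : ℕ := nat_lit 0x91514140
noncomputable def tD0 : ℕ := nat_lit 0x7c02d0055802201320040044000000
noncomputable def tT : Tr := (.leaf tT0)
noncomputable def tJ : Tr := (.leaf tJ0)
noncomputable def tD : Tr := (.leaf tD0)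

def rels : List (List ℕ) := [[0,1],
  [1,0],
  [0,0,0,0,0,0,0,0]]
def subs : List (List ℕ) := []
def iv (a : ℕ) : ℕ := [1,0,2].getD a 0
noncomputable def RR0 : List Rule := [.bwd [1] 0 0 0]
noncomputable def RR1 : List Rule := [.bwd [0] 1 0 0,
  .bwd [1,1,1,1,1,1,1] 2 1 1]
noncomputable def RR : List (List Rule) := [RR0, RR1]
noncomputable def rowp (j : ℕ) : ℕ := piece tT (nat_lit 3) (nat_lit 7) (nat_lit 4096) (Nat.pred (Nat.shiftLeft 1 (nat_lit 4096))) j
noncomputable def row (u : ℕ) : ℕ := rowOf rowp (nat_lit 8) (nat_lit 255) (nat_lit 16) u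
noncomputable def jrowp (j : ℕ) : ℕ := piece tJ (nat_lit 3) (nat_lit 7) (nat_lit 4096) (Nat.pred (Nat.shiftLeft 1 (nat_lit 4096))) j
noncomputable def jrow (u : ℕ) : ℕ := rowOf jrowp (nat_lit 10) (nat_lit 1023) (nat_lit 4) u
noncomputable def drowp (j : ℕ) : ℕ := piece tD (nat_lit 3) (nat_lit 7) (nat_lit 3840) (Nat.pred (Nat.shiftLeft 1 (nat_lit 3840))) j
noncomputable def drow (u : ℕ) : ℕ := rowOf drowp (nat_lit 8) (nat_lit 255) (nat_lit 15) u
noncomputable def cert : PCert := ⟨(nat_lit 2), (nat_lit 2), (nat_lit 7), (nat_lit 8), (nat_lit 255), (nat_lit 254), (nat_lit 8), (nat_lit 7), (nat_lit 7), (nat_lit 2), (nat_lit 3), (nat_lit 2), (nat_lit 3), (nat_lit 32767), (nat_lit 0), row, jrow, drow, RR⟩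
theorem params : cert.paramsOK = true := by decide +kernel
theorem rules : rulesOK rels subs iv cert.L cert.LL cert.RR = true := by decide +kernel
theorem blk0 : cert.alive (nat_lit 0) (nat_lit 1) (nat_lit 8) = 0 := by decide +kernel
theorem up0 : cert.Upto 0 := PCert.upto_zero _
theorem up1 : cert.Upto 8 := up0.alive params blk0 (by decide)

theorem covers {G : Type*} [Group G] {g : ℕ → G} {H : Subgroup G}
    (h : Sat g H 2 iv rels subs) : Covers g 2 H 8 :=
  PCert.covers (p := cert) params rules (by decide +kernel) up1 h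

end CL.S64.T000.Ef

namespace CL.S64.T000.Efu
open CL.CE CL.K

noncomputable def tT0 : ℕ := nat_lit 0x8db742
noncomputable def tJ0 : ℕ := nat_lit 0x585
noncomputable def tD0 : ℕ := nat_lit 0x101000
noncomputable def tT : Tr := (.leaf tT0)
noncomputable def tJ : Tr := (.leaf tJ0)
noncomputable def tD : Tr := (.leaf tD0)

def rels : List (List ℕ) := [[0,1],
  [1,0],
  [2,2],
  [0,0,0,0,0,0,0,0],
  [2,0,2,0,0,0]]
def subs : List (List ℕ) := [[0],
  [1]]
def iv (a : ℕ) : ℕ := [1,0,2,3].getD a 0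
noncomputable def RR0 : List Rule := [.sub [] [] 0 0,
  .bwd [2,0,0,0,2] 4 1 0]
noncomputable def RR1 : List Rule := [.bwd [0] 1 0 0]
noncomputable def RR2 : List Rule := [.bwd [2] 2 0 0]
noncomputable def RR : List (List Rule) := [RR0, RR1, RR2]
noncomputable def rowp (j : ℕ) : ℕ := piece tT (nat_lit 3) (nat_lit 7) (nat_lit 3072) (Nat.pred (Nat.shiftLeft 1 (nat_lit 3072))) j
noncomputable def row (u : ℕ) : ℕ := rowOf rowp (nat_lit 8) (nat_lit 255) (nat_lit 12) u
noncomputable def jrowp (j : ℕ) : ℕ := piece tJ (nat_lit 3) (nat_lit 7) (nat_lit 3072) (Nat.pred (Nat.shiftLeft 1 (nat_lit 3072))) j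
noncomputable def jrow (u : ℕ) : ℕ := rowOf jrowp (nat_lit 9) (nat_lit 511) (nat_lit 6) u
noncomputable def drowp (j : ℕ) : ℕ := piece tD (nat_lit 3) (nat_lit 7) (nat_lit 2816) (Nat.pred (Nat.shiftLeft 1 (nat_lit 2816))) j
noncomputable def drow (u : ℕ) : ℕ := rowOf drowp (nat_lit 8) (nat_lit 255) (nat_lit 11) u
noncomputable def cert : PCert := ⟨(nat_lit 3), (nat_lit 3), (nat_lit 1), (nat_lit 4), (nat_lit 15), (nat_lit 14), (nat_lit 2), (nat_lit 1), (nat_lit 1), (nat_lit 2), (nat_lit 3), (nat_lit 2), (nat_lit 3), (nat_lit 2047), (nat_lit 0), row, jrow, drow, RR⟩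
theorem params : cert.paramsOK = true := by decide +kernel
theorem rules : rulesOK rels subs iv cert.L cert.LL cert.RR = true := by decide +kernel
theorem blk0 : cert.alive (nat_lit 0) (nat_lit 1) (nat_lit 2) = 0 := by decide +kernel
theorem up0 : cert.Upto 0 := PCert.upto_zero _
theorem up1 : cert.Upto 2 := up0.alive params blk0 (by decide)

theorem covers {G : Type*} [Group G] {g : ℕ → G} {H : Subgroup G}
    (h : Sat g H 3 iv rels subs) : Covers g 3 H 2 :=
  PCert.covers (p := cert) params rules (by decide +kernel) up1 h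

end CL.S64.T000.Efu

namespace CL.S64.T000.Efus
open CL.CE CL.K

noncomputable def tT0 : ℕ := nat_lit 0x14cace2f49882
noncomputable def tJ0 : ℕ := nat_lit 0x59915
noncomputable def tD0 : ℕ := nat_lit 0x101800
noncomputable def tT : Tr := (.leaf tT0)
noncomputable def tJ : Tr := (.leaf tJ0)
noncomputable def tD : Tr := (.leaf tD0)

def rels : List (List ℕ) := [[0,1],
  [1,0],
  [2,2],
  [3,4],
  [4,3],
  [0,0,0,0,0,0,0,0],
  [2,0,2,0,0,0],
  [3,0,4,0],
  [3,2,4,2],
  [3,3]]
def subs : List (List ℕ) := [[0],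
  [1],
  [2]]
def iv (a : ℕ) : ℕ := [1,0,2,4,3,5].getD a 0
noncomputable def RR0 : List Rule := [.sub [] [] 0 0,
  .bwd [4,0,3] 7 1 0]
noncomputable def RR1 : List Rule := [.bwd [0] 1 0 0]
noncomputable def RR2 : List Rule := [.sub [] [] 2 0,
  .bwd [4,2,3] 8 1 0]
noncomputable def RR3 : List Rule := [.bwd [3] 9 1 0]
noncomputable def RR4 : List Rule := [.bwd [3] 4 0 0]
noncomputable def RR : List (List Rule) := [RR0, RR1, RR2, RR3, RR4]
noncomputable def rowp (j : ℕ) : ℕ := piece tT (nat_lit 3) (nat_lit 7) (nat_lit 3200) (Nat.pred (Nat.shiftLeft 1 (nat_lit 3200))) j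
noncomputable def row (u : ℕ) : ℕ := rowOf rowp (nat_lit 7) (nat_lit 127) (nat_lit 25) u
noncomputable def jrowp (j : ℕ) : ℕ := piece tJ (nat_lit 3) (nat_lit 7) (nat_lit 2560) (Nat.pred (Nat.shiftLeft 1 (nat_lit 2560))) j
noncomputable def jrow (u : ℕ) : ℕ := rowOf jrowp (nat_lit 8) (nat_lit 255) (nat_lit 10) u
noncomputable def drowp (j : ℕ) : ℕ := piece tD (nat_lit 3) (nat_lit 7) (nat_lit 2816) (Nat.pred (Nat.shiftLeft 1 (nat_lit 2816))) j
noncomputable def drow (u : ℕ) : ℕ := rowOf drowp (nat_lit 8) (nat_lit 255) (nat_lit 11) u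
noncomputable def cert : PCert := ⟨(nat_lit 5), (nat_lit 5), (nat_lit 1), (nat_lit 5), (nat_lit 31), (nat_lit 30), (nat_lit 2), (nat_lit 1), (nat_lit 1), (nat_lit 2), (nat_lit 3), (nat_lit 2), (nat_lit 3), (nat_lit 2047), (nat_lit 0), row, jrow, drow, RR⟩
theorem params : cert.paramsOK = true := by decide +kernel
theorem rules : rulesOK rels subs iv cert.L cert.LL cert.RR = true := by decide +kernel
theorem blk0 : cert.alive (nat_lit 0) (nat_lit 1) (nat_lit 2) = 0 := by decide +kernel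
theorem up0 : cert.Upto 0 := PCert.upto_zero _
theorem up1 : cert.Upto 2 := up0.alive params blk0 (by decide)

theorem covers {G : Type*} [Group G] {g : ℕ → G} {H : Subgroup G}
    (h : Sat g H 5 iv rels subs) : Covers g 5 H 2 :=
  PCert.covers (p := cert) params rules (by decide +kernel) up1 h

end CL.S64.T000.Efus

namespace CL.S64.T000.Efusg
open CL.CE CL.K

noncomputable def tT0 : ℕ := nat_lit 0x1d0eeeb9bcdaa41882
noncomputable def tJ0 : ℕ := nat_lit 0x5699155
noncomputable def tD0 : ℕ := nat_lit 0x102800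
noncomputable def tT : Tr := (.leaf tT0)
noncomputable def tJ : Tr := (.leaf tJ0)
noncomputable def tD : Tr := (.leaf tD0)

def rels : List (List ℕ) := [[0,1],
  [1,0],
  [2,2],
  [3,4],
  [4,3],
  [5,6],
  [6,5],
  [0,0,0,0,0,0,0,0],
  [2,0,2,0,0,0],
  [3,0,4,0],
  [3,2,4,2],
  [5,0,6,1,2],
  [5,2,6,2],
  [3,3],
  [5,5],
  [5,3,6,4,2]]
def subs : List (List ℕ) := [[0],
  [1],
  [2],
  [3],
  [4]]
def iv (a : ℕ) : ℕ := [1,0,2,4,3,6,5,7].getD a 0
noncomputable def RR0 : List Rule := [.sub [] [] 0 0,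
  .bwd [6,1,2,5] 11 1 0]
noncomputable def RR1 : List Rule := [.bwd [0] 1 0 0]
noncomputable def RR2 : List Rule := [.sub [] [] 2 0,
  .bwd [6,2,5] 12 1 0]
noncomputable def RR3 : List Rule := [.sub [] [] 3 0,
  .bwd [6,4,2,5] 15 1 0]
noncomputable def RR4 : List Rule := [.bwd [3] 4 0 0]
noncomputable def RR5 : List Rule := [.bwd [5] 14 1 0]
noncomputable def RR6 : List Rule := [.bwd [5] 6 0 0]
noncomputable def RR : List (List Rule) := [RR0, RR1, RR2, RR3, RR4, RR5, RR6]
noncomputable def rowp (j : ℕ) : ℕ := piece tT (nat_lit 3) (nat_lit 7) (nat_lit 2240) (Nat.pred (Nat.shiftLeft 1 (nat_lit 2240))) j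
noncomputable def row (u : ℕ) : ℕ := rowOf rowp (nat_lit 6) (nat_lit 63) (nat_lit 35) u
noncomputable def jrowp (j : ℕ) : ℕ := piece tJ (nat_lit 3) (nat_lit 7) (nat_lit 3584) (Nat.pred (Nat.shiftLeft 1 (nat_lit 3584))) j
noncomputable def jrow (u : ℕ) : ℕ := rowOf jrowp (nat_lit 8) (nat_lit 255) (nat_lit 14) u
noncomputable def drowp (j : ℕ) : ℕ := piece tD (nat_lit 3) (nat_lit 7) (nat_lit 2816) (Nat.pred (Nat.shiftLeft 1 (nat_lit 2816))) j
noncomputable def drow (u : ℕ) : ℕ := rowOf drowp (nat_lit 8) (nat_lit 255) (nat_lit 11) u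
noncomputable def cert : PCert := ⟨(nat_lit 7), (nat_lit 7), (nat_lit 1), (nat_lit 5), (nat_lit 31), (nat_lit 30), (nat_lit 2), (nat_lit 1), (nat_lit 1), (nat_lit 2), (nat_lit 3), (nat_lit 2), (nat_lit 3), (nat_lit 2047), (nat_lit 0), row, jrow, drow, RR⟩
theorem params : cert.paramsOK = true := by decide +kernel
theorem rules : rulesOK rels subs iv cert.L cert.LL cert.RR = true := by decide +kernel
theorem blk0 : cert.alive (nat_lit 0) (nat_lit 1) (nat_lit 2) = 0 := by decide +kernel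
theorem up0 : cert.Upto 0 := PCert.upto_zero _
theorem up1 : cert.Upto 2 := up0.alive params blk0 (by decide)

theorem covers {G : Type*} [Group G] {g : ℕ → G} {H : Subgroup G}
    (h : Sat g H 7 iv rels subs) : Covers g 7 H 2 :=
  PCert.covers (p := cert) params rules (by decide +kernel) up1 h

end CL.S64.T000.Efusg

namespace CL.S64.T000
open CL.CE CL.K CL.Reg

def iv (a : ℕ) : ℕ := [1,0,2,4,3,6,5].getD a a
def Rels : List (List ℕ) := [[0,1], [1,0], [2,2], [3,4], [4,3], [5,6], [6,5], [0,0,0,0,0,0,0,0], [2,0,2,0,0,0], [3,0,4,0], [3,2,4,2], [5,0,6,1,2], [5,2,6,2], [3,3], [5,5], [5,3,6,4,2]]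

theorem idx_f {G : Type*} [Group G] {g : ℕ → G} (h : Pres g iv Rels) :
    IdxLe (gen g []) (gen g [[0], [1]]) 8 :=
  h.idxLe _ _ CL.S64.T000.Ef.covers (by decide +kernel)

theorem le_f {G : Type*} [Group G] {g : ℕ → G} (h : Pres g iv Rels) :
    CardLe (gen g [[0], [1]]) 8 :=
  (idx_f h).cardLe (cardLe_nil g) (by norm_num)

theorem idx_fu {G : Type*} [Group G] {g : ℕ → G} (h : Pres g iv Rels) :
    IdxLe (gen g [[0], [1]]) (gen g [[0], [1], [2]]) 2 :=
  h.idxLe _ _ CL.S64.T000.Efu.covers (by decide +kernel)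

theorem le_fu {G : Type*} [Group G] {g : ℕ → G} (h : Pres g iv Rels) :
    CardLe (gen g [[0], [1], [2]]) 16 :=
  (idx_fu h).cardLe (le_f h) (by norm_num)

theorem idx_fus {G : Type*} [Group G] {g : ℕ → G} (h : Pres g iv Rels) :
    IdxLe (gen g [[0], [1], [2]]) (gen g [[0], [1], [2], [3], [4]]) 2 :=
  h.idxLe _ _ CL.S64.T000.Efus.covers (by decide +kernel)

theorem le_fus {G : Type*} [Group G] {g : ℕ → G} (h : Pres g iv Rels) :
    CardLe (gen g [[0], [1], [2], [3], [4]]) 32 :=
  (idx_fus h).cardLe (le_fu h) (by norm_num)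

theorem idx_fusg {G : Type*} [Group G] {g : ℕ → G} (h : Pres g iv Rels) :
    IdxLe (gen g [[0], [1], [2], [3], [4]]) (gen g [[0], [1], [2], [3], [4], [5], [6]]) 2 :=
  h.idxLe _ _ CL.S64.T000.Efusg.covers (by decide +kernel)

theorem le_fusg {G : Type*} [Group G] {g : ℕ → G} (h : Pres g iv Rels) :
    CardLe (gen g [[0], [1], [2], [3], [4], [5], [6]]) 64 :=
  (idx_fusg h).cardLe (le_fus h) (by norm_num)

noncomputable def H_T : ℕ := nat_lit 0xe79befdbac2aaadb6ee7bebaa69b33f36db8e39f668a2d75dfeb3df618688bffff7dff20fafbfcf1f969d348e3ee677cf1b6ff72469aefb8ebb77dda6a2a9cc71659caef5861e7b39e0cf35d7624a2eb965aafd8e38fff6d6870c1453e573596fbe5357e8a2bafded2861b2ca51d7ef8f3f043438ef7daf866cb0e3bac5092434d992c8c325967f372cb9a6363e279cb2ccdb128adf7d5397beca2b433aaebeba3af29c70925dcb96dbe79e2d2575f2c9924d2084d38375608071c8d367dfdb6bcb1f5d74d0a1cf186cf37a9532c861b1c0879ec7118e2edb70c0f1af41014549db8f3eebad6451c775d2458c4111455b270c349214dad55430c4a2a514aaa59a0e9a68a210d70829e795e4669820a41229659240976e38e289a8420418204df79d74105c6044d371c05b6996586170560005554544d248001020c45141000f38d34c30b2802492081c0185144103081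
noncomputable def H_W : ℕ := nat_lit 0x41111064230461302642064220422204261032610264104231061310413104611064110431104111011110042600326002640016300423006130041300462006420063200432006220042200222004610026100161006410043100231001310061100411003110011100046000260001600064000630004300023000130006200042000320002200061000410003100011000060000400003000020000100000
noncomputable def H_I : ℕ := nat_lit 0xffef79cfaf38cb6d74ef7c70be6a60964b5c9eeaea8e25ac7de7686d76586a14893554501cb4cc3865083ca1440c1080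
noncomputable def H_dat : Dat := ⟨nat_lit 64, nat_lit 7, nat_lit 5, [1,0,2,4,3,6,5], tb (nat_lit 7) (nat_lit 6) (nat_lit 63) H_T,
  fld (nat_lit 20) (nat_lit 1048575) H_W, fld (nat_lit 6) (nat_lit 63) H_I⟩
theorem H_chk : H_dat.Chk Rels :=
  Dat.chk_of (a := 8) (b := 8) (by decide +kernel) rfl (by decide +kernel)
theorem H_good : H_dat.Good Rels := H_chk.good fun _ hg => le_fusg hg
/-- the group of the table -/
abbrev H : Type := RG H_dat H_good
theorem H_hom {G : Type*} [Group G] {g : ℕ → G} (hg : Pres g iv Rels) :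
    ∃ φ : H →* G, φ.range = gen g [[0], [1], [2], [3], [4], [5], [6]] ∧
      ∀ w : List ℕ, ltAll 7 w = true → φ (RG.wd H_good w) = ev g w :=
  RG.exists_hom hg fun _ hg' => le_fusg hg'

noncomputable def f : H := RG.mk' H_good (nat_lit 1)
noncomputable def u : H := RG.mk' H_good (nat_lit 3)
noncomputable def s : H := RG.mk' H_good (nat_lit 4)
noncomputable def g : H := RG.mk' H_good (nat_lit 5)
noncomputable def z : H := RG.mk' H_good (nat_lit 47)
theorem wd_f : RG.wd H_good [0] = f := by decide +kernel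
theorem wd_u : RG.wd H_good [2] = u := by decide +kernel
theorem wd_s : RG.wd H_good [3] = s := by decide +kernel
theorem wd_g : RG.wd H_good [5] = g := by decide +kernel

end CL.S64.T000

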