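/- Groups of order 64 as tables (generated). -/
import Cfsg.Agent.SPOR.A10.Reg
set_option autoImplicit false
set_option maxRecDepth 100000

namespace CL.S64.T010.Ef
open CL.CE CL.K

noncomputable def tT0 : ℕ := nat_lit 0x7d766f6453875e42314d3c20102b1a09
noncomputable def tJ0 : ℕ := nat_lit 0x91514140
noncomputable def tD0 : ℕ := nat_lit 0x7c02d0055802201320040044000000
noncomputable def tT : Tr := (.leaf tT0)
noncomputable def tJ : Tr := (.leaf tJ0)
noncomputable def tD : Tr := (.leaf tD0)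

def rels : List (List ℕ) := [[0,1],
  [1,0],
  [0,0,0,0,0,0,0,0]]
def subs : List (List ℕ) := []
def iv (a : ℕ) : ℕ := [1,0,2].getD a 0
noncomputable def RR0 : List Rule := [.bwd [1] 0 0 0]
noncomputable def RR1 : List Rule := [.bwd [0] 1 0 0,
  .bwd [1,1,1,1,1,1,1] 2 1 1]
noncomputable def RR : List (List Rule) := [RR0, RR1]
noncomputable def rowp (j : ℕ) : ℕ := piece tT (nat_lit 3) (nat_lit 7) (nat_lit 4096) (Nat.pred (Nat.shiftLeft 1 (nat_lit 4096))) j
noncomputable def row (u : ℕ) : ℕ := rowOf rowp (nat_lit 8) (nat_lit 255) (nat_lit 16) u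
noncomputable def jrowp (j : ℕ) : ℕ := piece tJ (nat_lit 3) (nat_lit 7) (nat_lit 4096) (Nat.pred (Nat.shiftLeft 1 (nat_lit 4096))) j
noncomputable def jrow (u : ℕ) : ℕ := rowOf jrowp (nat_lit 10) (nat_lit 1023) (nat_lit 4) u
noncomputable def drowp (j : ℕ) : ℕ := piece tD (nat_lit 3) (nat_lit 7) (nat_lit 3840) (Nat.pred (Nat.shiftLeft 1 (nat_lit 3840))) j
noncomputable def drow (u : ℕ) : ℕ := rowOf drowp (nat_lit 8) (nat_lit 255) (nat_lit 15) u
noncomputable def cert : PCert := ⟨(nat_lit 2), (nat_lit 2), (nat_lit 7), (nat_lit 8), (nat_lit 255), (nat_lit 254), (nat_lit 8), (nat_lit 7), (nat_lit 7), (nat_lit 2), (nat_lit 3), (nat_lit 2), (nat_lit 3), (nat_lit 32767), (nat_lit 0), row, jrow, drow, RR⟩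
theorem params : cert.paramsOK = true := by decide +kernel
theorem rules : rulesOK rels subs iv cert.L cert.LL cert.RR = true := by decide +kernel
theorem blk0 : cert.alive (nat_lit 0) (nat_lit 1) (nat_lit 8) = 0 := by decide +kernel
theorem up0 : cert.Upto 0 := PCert.upto_zero _
theorem up1 : cert.Upto 8 := up0.alive params blk0 (by decide)

theorem covers {G : Type*} [Group G] {g : ℕ → G} {H : Subgroup G}
    (h : Sat g H 2 iv rels subs) : Covers g 2 H 8 :=
  PCert.covers (p := cert) params rules (by decide +kernel) up1 h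

end CL.S64.T010.Ef

namespace CL.S64.T010.Efu
open CL.CE CL.K

noncomputable def tT0 : ℕ := nat_lit 0x8db742
noncomputable def tJ0 : ℕ := nat_lit 0x585
noncomputable def tD0 : ℕ := nat_lit 0x101000
noncomputable def tT : Tr := (.leaf tT0)
noncomputable def tJ : Tr := (.leaf tJ0)
noncomputable def tD : Tr := (.leaf tD0)

def rels : List (List ℕ) := [[0,1],
  [1,0],
  [2,2],
  [0,0,0,0,0,0,0,0],
  [2,0,2,0,0,0]]
def subs : List (List ℕ) := [[0],
  [1]]
def iv (a : ℕ) : ℕ := [1,0,2,3].getD a 0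
noncomputable def RR0 : List Rule := [.sub [] [] 0 0,
  .bwd [2,0,0,0,2] 4 1 0]
noncomputable def RR1 : List Rule := [.bwd [0] 1 0 0]
noncomputable def RR2 : List Rule := [.bwd [2] 2 0 0]
noncomputable def RR : List (List Rule) := [RR0, RR1, RR2]
noncomputable def rowp (j : ℕ) : ℕ := piece tT (nat_lit 3) (nat_lit 7) (nat_lit 3072) (Nat.pred (Nat.shiftLeft 1 (nat_lit 3072))) j
noncomputable def row (u : ℕ) : ℕ := rowOf rowp (nat_lit 8) (nat_lit 255) (nat_lit 12) u
noncomputable def jrowp (j : ℕ) : ℕ := piece tJ (nat_lit 3) (nat_lit 7) (nat_lit 3072) (Nat.pred (Nat.shiftLeft 1 (nat_lit 3072))) j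
noncomputable def jrow (u : ℕ) : ℕ := rowOf jrowp (nat_lit 9) (nat_lit 511) (nat_lit 6) u
noncomputable def drowp (j : ℕ) : ℕ := piece tD (nat_lit 3) (nat_lit 7) (nat_lit 2816) (Nat.pred (Nat.shiftLeft 1 (nat_lit 2816))) j
noncomputable def drow (u : ℕ) : ℕ := rowOf drowp (nat_lit 8) (nat_lit 255) (nat_lit 11) u
noncomputable def cert : PCert := ⟨(nat_lit 3), (nat_lit 3), (nat_lit 1), (nat_lit 4), (nat_lit 15), (nat_lit 14), (nat_lit 2), (nat_lit 1), (nat_lit 1), (nat_lit 2), (nat_lit 3), (nat_lit 2), (nat_lit 3), (nat_lit 2047), (nat_lit 0), row, jrow, drow, RR⟩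
theorem params : cert.paramsOK = true := by decide +kernel
theorem rules : rulesOK rels subs iv cert.L cert.LL cert.RR = true := by decide +kernel
theorem blk0 : cert.alive (nat_lit 0) (nat_lit 1) (nat_lit 2) = 0 := by decide +kernel
theorem up0 : cert.Upto 0 := PCert.upto_zero _
theorem up1 : cert.Upto 2 := up0.alive params blk0 (by decide)

theorem covers {G : Type*} [Group G] {g : ℕ → G} {H : Subgroup G}
    (h : Sat g H 3 iv rels subs) : Covers g 3 H 2 :=
  PCert.covers (p := cert) params rules (by decide +kernel) up1 h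

end CL.S64.T010.Efu

namespace CL.S64.T010.Efus
open CL.CE CL.K

noncomputable def tT0 : ℕ := nat_lit 0x14cace2f49882
noncomputable def tJ0 : ℕ := nat_lit 0x59915
noncomputable def tD0 : ℕ := nat_lit 0x101800
noncomputable def tT : Tr := (.leaf tT0)
noncomputable def tJ : Tr := (.leaf tJ0)
noncomputable def tD : Tr := (.leaf tD0)

def rels : List (List ℕ) := [[0,1],
  [1,0],
  [2,2],
  [3,4],
  [4,3],
  [0,0,0,0,0,0,0,0],
  [2,0,2,0,0,0],
  [3,0,4,0],
  [3,2,4,2],
  [3,3]]
def subs : List (List ℕ) := [[0],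
  [1],
  [2]]
def iv (a : ℕ) : ℕ := [1,0,2,4,3,5].getD a 0
noncomputable def RR0 : List Rule := [.sub [] [] 0 0,
  .bwd [4,0,3] 7 1 0]
noncomputable def RR1 : List Rule := [.bwd [0] 1 0 0]
noncomputable def RR2 : List Rule := [.sub [] [] 2 0,
  .bwd [4,2,3] 8 1 0]
noncomputable def RR3 : List Rule := [.bwd [3] 9 1 0]
noncomputable def RR4 : List Rule := [.bwd [3] 4 0 0]
noncomputable def RR : List (List Rule) := [RR0, RR1, RR2, RR3, RR4]
noncomputable def rowp (j : ℕ) : ℕ := piece tT (nat_lit 3) (nat_lit 7) (nat_lit 3200) (Nat.pred (Nat.shiftLeft 1 (nat_lit 3200))) j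
noncomputable def row (u : ℕ) : ℕ := rowOf rowp (nat_lit 7) (nat_lit 127) (nat_lit 25) u
noncomputable def jrowp (j : ℕ) : ℕ := piece tJ (nat_lit 3) (nat_lit 7) (nat_lit 2560) (Nat.pred (Nat.shiftLeft 1 (nat_lit 2560))) j
noncomputable def jrow (u : ℕ) : ℕ := rowOf jrowp (nat_lit 8) (nat_lit 255) (nat_lit 10) u
noncomputable def drowp (j : ℕ) : ℕ := piece tD (nat_lit 3) (nat_lit 7) (nat_lit 2816) (Nat.pred (Nat.shiftLeft 1 (nat_lit 2816))) j
noncomputable def drow (u : ℕ) : ℕ := rowOf drowp (nat_lit 8) (nat_lit 255) (nat_lit 11) u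
noncomputable def cert : PCert := ⟨(nat_lit 5), (nat_lit 5), (nat_lit 1), (nat_lit 5), (nat_lit 31), (nat_lit 30), (nat_lit 2), (nat_lit 1), (nat_lit 1), (nat_lit 2), (nat_lit 3), (nat_lit 2), (nat_lit 3), (nat_lit 2047), (nat_lit 0), row, jrow, drow, RR⟩
theorem params : cert.paramsOK = true := by decide +kernel
theorem rules : rulesOK rels subs iv cert.L cert.LL cert.RR = true := by decide +kernel
theorem blk0 : cert.alive (nat_lit 0) (nat_lit 1) (nat_lit 2) = 0 := by decide +kernel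
theorem up0 : cert.Upto 0 := PCert.upto_zero _
theorem up1 : cert.Upto 2 := up0.alive params blk0 (by decide)

theorem covers {G : Type*} [Group G] {g : ℕ → G} {H : Subgroup G}
    (h : Sat g H 5 iv rels subs) : Covers g 5 H 2 :=
  PCert.covers (p := cert) params rules (by decide +kernel) up1 h

end CL.S64.T010.Efus

namespace CL.S64.T010.Efusg
open CL.CE CL.K

noncomputable def tT0 : ℕ := nat_lit 0x1dacde359f5aa41882
noncomputable def tJ0 : ℕ := nat_lit 0x5699155
noncomputable def tD0 : ℕ := nat_lit 0x102800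
noncomputable def tT : Tr := (.leaf tT0)
noncomputable def tJ : Tr := (.leaf tJ0)
noncomputable def tD : Tr := (.leaf tD0)

def rels : List (List ℕ) := [[0,1],
  [1,0],
  [2,2],
  [3,4],
  [4,3],
  [5,6],
  [6,5],
  [0,0,0,0,0,0,0,0],
  [2,0,2,0,0,0],
  [3,0,4,0],
  [3,2,4,2],
  [5,0,6,1,2],
  [5,2,6,2],
  [3,3],
  [5,5,0,0,0,0],
  [5,3,6,4,2]]
def subs : List (List ℕ) := [[0],
  [1],
  [2],
  [3],
  [4]]
def iv (a : ℕ) : ℕ := [1,0,2,4,3,6,5,7].getD a 0
noncomputable def RR0 : List Rule := [.sub [] [] 0 0,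
  .bwd [6,1,2,5] 11 1 0]
noncomputable def RR1 : List Rule := [.bwd [0] 1 0 0]
noncomputable def RR2 : List Rule := [.sub [] [] 2 0,
  .bwd [6,2,5] 12 1 0]
noncomputable def RR3 : List Rule := [.sub [] [] 3 0,
  .bwd [6,4,2,5] 15 1 0]
noncomputable def RR4 : List Rule := [.bwd [3] 4 0 0]
noncomputable def RR5 : List Rule := [.bwd [0,0,0,0,5] 14 1 0]
noncomputable def RR6 : List Rule := [.bwd [5] 6 0 0]
noncomputable def RR : List (List Rule) := [RR0, RR1, RR2, RR3, RR4, RR5, RR6]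
noncomputable def rowp (j : ℕ) : ℕ := piece tT (nat_lit 3) (nat_lit 7) (nat_lit 2240) (Nat.pred (Nat.shiftLeft 1 (nat_lit 2240))) j
noncomputable def row (u : ℕ) : ℕ := rowOf rowp (nat_lit 6) (nat_lit 63) (nat_lit 35) u
noncomputable def jrowp (j : ℕ) : ℕ := piece tJ (nat_lit 3) (nat_lit 7) (nat_lit 3584) (Nat.pred (Nat.shiftLeft 1 (nat_lit 3584))) j
noncomputable def jrow (u : ℕ) : ℕ := rowOf jrowp (nat_lit 8) (nat_lit 255) (nat_lit 14) u
noncomputable def drowp (j : ℕ) : ℕ := piece tD (nat_lit 3) (nat_lit 7) (nat_lit 2816) (Nat.pred (Nat.shiftLeft 1 (nat_lit 2816))) j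
noncomputable def drow (u : ℕ) : ℕ := rowOf drowp (nat_lit 8) (nat_lit 255) (nat_lit 11) u
noncomputable def cert : PCert := ⟨(nat_lit 7), (nat_lit 7), (nat_lit 1), (nat_lit 5), (nat_lit 31), (nat_lit 30), (nat_lit 2), (nat_lit 1), (nat_lit 1), (nat_lit 2), (nat_lit 3), (nat_lit 2), (nat_lit 3), (nat_lit 2047), (nat_lit 0), row, jrow, drow, RR⟩
theorem params : cert.paramsOK = true := by decide +kernel
theorem rules : rulesOK rels subs iv cert.L cert.LL cert.RR = true := by decide +kernel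
theorem blk0 : cert.alive (nat_lit 0) (nat_lit 1) (nat_lit 2) = 0 := by decide +kernel
theorem up0 : cert.Upto 0 := PCert.upto_zero _
theorem up1 : cert.Upto 2 := up0.alive params blk0 (by decide)

theorem covers {G : Type*} [Group G] {g : ℕ → G} {H : Subgroup G}
    (h : Sat g H 7 iv rels subs) : Covers g 7 H 2 :=
  PCert.covers (p := cert) params rules (by decide +kernel) up1 h

end CL.S64.T010.Efusg

namespace CL.S64.T010
open CL.CE CL.K CL.Reg

def iv (a : ℕ) : ℕ := [1,0,2,4,3,6,5].getD a a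
def Rels : List (List ℕ) := [[0,1], [1,0], [2,2], [3,4], [4,3], [5,6], [6,5], [0,0,0,0,0,0,0,0], [2,0,2,0,0,0], [3,0,4,0], [3,2,4,2], [5,0,6,1,2], [5,2,6,2], [3,3], [5,5,0,0,0,0], [5,3,6,4,2]]

theorem idx_f {G : Type*} [Group G] {g : ℕ → G} (h : Pres g iv Rels) :
    IdxLe (gen g []) (gen g [[0], [1]]) 8 :=
  h.idxLe _ _ CL.S64.T010.Ef.covers (by decide +kernel)

theorem le_f {G : Type*} [Group G] {g : ℕ → G} (h : Pres g iv Rels) :
    CardLe (gen g [[0], [1]]) 8 :=
  (idx_f h).cardLe (cardLe_nil g) (by norm_num)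

theorem idx_fu {G : Type*} [Group G] {g : ℕ → G} (h : Pres g iv Rels) :
    IdxLe (gen g [[0], [1]]) (gen g [[0], [1], [2]]) 2 :=
  h.idxLe _ _ CL.S64.T010.Efu.covers (by decide +kernel)

theorem le_fu {G : Type*} [Group G] {g : ℕ → G} (h : Pres g iv Rels) :
    CardLe (gen g [[0], [1], [2]]) 16 :=
  (idx_fu h).cardLe (le_f h) (by norm_num)

theorem idx_fus {G : Type*} [Group G] {g : ℕ → G} (h : Pres g iv Rels) :
    IdxLe (gen g [[0], [1], [2]]) (gen g [[0], [1], [2], [3], [4]]) 2 :=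
  h.idxLe _ _ CL.S64.T010.Efus.covers (by decide +kernel)

theorem le_fus {G : Type*} [Group G] {g : ℕ → G} (h : Pres g iv Rels) :
    CardLe (gen g [[0], [1], [2], [3], [4]]) 32 :=
  (idx_fus h).cardLe (le_fu h) (by norm_num)

theorem idx_fusg {G : Type*} [Group G] {g : ℕ → G} (h : Pres g iv Rels) :
    IdxLe (gen g [[0], [1], [2], [3], [4]]) (gen g [[0], [1], [2], [3], [4], [5], [6]]) 2 :=
  h.idxLe _ _ CL.S64.T010.Efusg.covers (by decide +kernel)

theorem le_fusg {G : Type*} [Group G] {g : ℕ → G} (h : Pres g iv Rels) :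
    CardLe (gen g [[0], [1], [2], [3], [4], [5], [6]]) 64 :=
  (idx_fusg h).cardLe (le_fus h) (by norm_num)

noncomputable def H_T : ℕ := nat_lit 0x9e8aebd2edbcf6492ed66fb98e3ef09f9fa28bac68ba1b2cf73b61ba9a7ccaaf7c82086fd30c5f7f5da169e965da6bd65db6f7ff8cb3492e13faab5147fe53d6f410c57eefd4f3f05bae0e659cdaf0ee1d7727bdcf234d3b7e7aecc33e3bfd262cba3b5a483bee32d028bfff45b326d0a2a7e97824eba88a3ff25c72df1e27f618abd6ada88209fb7515df76cd229b3ef8c212307f7db1874733cf29719efa1c7e7826ca79e4744d3d0e384876f74c6197a30352c303e3191228a0b1a2146db695fad3dc51569f148dc714221484679ca163d845557aacc4d9451ab729435d71902839565853cb79a0c3134d5d675d5f90361cd34ac381f0b3cd9b1509fcb2769531c020af12e65dbef0a09628eeba4ac2ac1b6d714b01aeaa98569a270419a111c6269819648e28618017db01e79575c01b69a51961758001324e5544d30124503ce38d3002ca2492001c6144103081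
noncomputable def H_W : ℕ := nat_lit 0x6641413147114611741164114311411106460664042304130472046207420642043204220471017106610461016107410641043102310131071106110411031101110047002700170066004600260016007400640073006300430023001300720062004200320022007100610041003100110007000600040003000200010000
noncomputable def H_I : ℕ := nat_lit 0xffeefaf7ce78df6be6cb3c70d6eb697eab27a349608a3864ad628f6d72d069e5154c835870e44765d2523051840c1080
noncomputable def H_dat : Dat := ⟨nat_lit 64, nat_lit 7, nat_lit 4, [1,0,2,4,3,6,5], tb (nat_lit 7) (nat_lit 6) (nat_lit 63) H_T,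
  fld (nat_lit 16) (nat_lit 65535) H_W, fld (nat_lit 6) (nat_lit 63) H_I⟩
theorem H_chk : H_dat.Chk Rels :=
  Dat.chk_of (a := 8) (b := 8) (by decide +kernel) rfl (by decide +kernel)
theorem H_good : H_dat.Good Rels := H_chk.good fun _ hg => le_fusg hg
/-- the group of the table -/
abbrev H : Type := RG H_dat H_good
theorem H_hom {G : Type*} [Group G] {g : ℕ → G} (hg : Pres g iv Rels) :
    ∃ φ : H →* G, φ.range = gen g [[0], [1], [2], [3], [4], [5], [6]] ∧
      ∀ w : List ℕ, ltAll 7 w = true → φ (RG.wd H_good w) = ev g w :=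
  RG.exists_hom hg fun _ hg' => le_fusg hg'

noncomputable def f : H := RG.mk' H_good (nat_lit 1)
noncomputable def u : H := RG.mk' H_good (nat_lit 3)
noncomputable def s : H := RG.mk' H_good (nat_lit 4)
noncomputable def g : H := RG.mk' H_good (nat_lit 5)
noncomputable def z : H := RG.mk' H_good (nat_lit 27)
theorem wd_f : RG.wd H_good [0] = f := by decide +kernel
theorem wd_u : RG.wd H_good [2] = u := by decide +kernel
theorem wd_s : RG.wd H_good [3] = s := by decide +kernel
theorem wd_g : RG.wd H_good [5] = g := by decide +kernel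

end CL.S64.T010

namespace CL.S64.T100.Ef
open CL.CE CL.K

noncomputable def tT0 : ℕ := nat_lit 0x7d766f6453875e42314d3c20102b1a09
noncomputable def tJ0 : ℕ := nat_lit 0x91514140
noncomputable def tD0 : ℕ := nat_lit 0x7c02d0055802201320040044000000
noncomputable def tT : Tr := (.leaf tT0)
noncomputable def tJ : Tr := (.leaf tJ0)
noncomputable def tD : Tr := (.leaf tD0)

def rels : List (List ℕ) := [[0,1],
  [1,0],
  [0,0,0,0,0,0,0,0]]
def subs : List (List ℕ) := []
def iv (a : ℕ) : ℕ := [1,0,2].getD a 0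
noncomputable def RR0 : List Rule := [.bwd [1] 0 0 0]
noncomputable def RR1 : List Rule := [.bwd [0] 1 0 0,
  .bwd [1,1,1,1,1,1,1] 2 1 1]
noncomputable def RR : List (List Rule) := [RR0, RR1]
noncomputable def rowp (j : ℕ) : ℕ := piece tT (nat_lit 3) (nat_lit 7) (nat_lit 4096) (Nat.pred (Nat.shiftLeft 1 (nat_lit 4096))) j
noncomputable def row (u : ℕ) : ℕ := rowOf rowp (nat_lit 8) (nat_lit 255) (nat_lit 16) u
noncomputable def jrowp (j : ℕ) : ℕ := piece tJ (nat_lit 3) (nat_lit 7) (nat_lit 4096) (Nat.pred (Nat.shiftLeft 1 (nat_lit 4096))) j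
noncomputable def jrow (u : ℕ) : ℕ := rowOf jrowp (nat_lit 10) (nat_lit 1023) (nat_lit 4) u
noncomputable def drowp (j : ℕ) : ℕ := piece tD (nat_lit 3) (nat_lit 7) (nat_lit 3840) (Nat.pred (Nat.shiftLeft 1 (nat_lit 3840))) j
noncomputable def drow (u : ℕ) : ℕ := rowOf drowp (nat_lit 8) (nat_lit 255) (nat_lit 15) u
noncomputable def cert : PCert := ⟨(nat_lit 2), (nat_lit 2), (nat_lit 7), (nat_lit 8), (nat_lit 255), (nat_lit 254), (nat_lit 8), (nat_lit 7), (nat_lit 7), (nat_lit 2), (nat_lit 3), (nat_lit 2), (nat_lit 3), (nat_lit 32767), (nat_lit 0), row, jrow, drow, RR⟩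
theorem params : cert.paramsOK = true := by decide +kernel
theorem rules : rulesOK rels subs iv cert.L cert.LL cert.RR = true := by decide +kernel
theorem blk0 : cert.alive (nat_lit 0) (nat_lit 1) (nat_lit 8) = 0 := by decide +kernel
theorem up0 : cert.Upto 0 := PCert.upto_zero _
theorem up1 : cert.Upto 8 := up0.alive params blk0 (by decide)

theorem covers {G : Type*} [Group G] {g : ℕ → G} {H : Subgroup G}
    (h : Sat g H 2 iv rels subs) : Covers g 2 H 8 :=
  PCert.covers (p := cert) params rules (by decide +kernel) up1 h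

end CL.S64.T100.Ef

namespace CL.S64.T100.Efu
open CL.CE CL.K

noncomputable def tT0 : ℕ := nat_lit 0x8db742
noncomputable def tJ0 : ℕ := nat_lit 0x585
noncomputable def tD0 : ℕ := nat_lit 0x101000
noncomputable def tT : Tr := (.leaf tT0)
noncomputable def tJ : Tr := (.leaf tJ0)
noncomputable def tD : Tr := (.leaf tD0)

def rels : List (List ℕ) := [[0,1],
  [1,0],
  [2,2],
  [0,0,0,0,0,0,0,0],
  [2,0,2,0,0,0]]
def subs : List (List ℕ) := [[0],
  [1]]
def iv (a : ℕ) : ℕ := [1,0,2,3].getD a 0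
noncomputable def RR0 : List Rule := [.sub [] [] 0 0,
  .bwd [2,0,0,0,2] 4 1 0]
noncomputable def RR1 : List Rule := [.bwd [0] 1 0 0]
noncomputable def RR2 : List Rule := [.bwd [2] 2 0 0]
noncomputable def RR : List (List Rule) := [RR0, RR1, RR2]
noncomputable def rowp (j : ℕ) : ℕ := piece tT (nat_lit 3) (nat_lit 7) (nat_lit 3072) (Nat.pred (Nat.shiftLeft 1 (nat_lit 3072))) j
noncomputable def row (u : ℕ) : ℕ := rowOf rowp (nat_lit 8) (nat_lit 255) (nat_lit 12) u
noncomputable def jrowp (j : ℕ) : ℕ := piece tJ (nat_lit 3) (nat_lit 7) (nat_lit 3072) (Nat.pred (Nat.shiftLeft 1 (nat_lit 3072))) j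
noncomputable def jrow (u : ℕ) : ℕ := rowOf jrowp (nat_lit 9) (nat_lit 511) (nat_lit 6) u
noncomputable def drowp (j : ℕ) : ℕ := piece tD (nat_lit 3) (nat_lit 7) (nat_lit 2816) (Nat.pred (Nat.shiftLeft 1 (nat_lit 2816))) j
noncomputable def drow (u : ℕ) : ℕ := rowOf drowp (nat_lit 8) (nat_lit 255) (nat_lit 11) u
noncomputable def cert : PCert := ⟨(nat_lit 3), (nat_lit 3), (nat_lit 1), (nat_lit 4), (nat_lit 15), (nat_lit 14), (nat_lit 2), (nat_lit 1), (nat_lit 1), (nat_lit 2), (nat_lit 3), (nat_lit 2), (nat_lit 3), (nat_lit 2047), (nat_lit 0), row, jrow, drow, RR⟩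
theorem params : cert.paramsOK = true := by decide +kernel
theorem rules : rulesOK rels subs iv cert.L cert.LL cert.RR = true := by decide +kernel
theorem blk0 : cert.alive (nat_lit 0) (nat_lit 1) (nat_lit 2) = 0 := by decide +kernel
theorem up0 : cert.Upto 0 := PCert.upto_zero _
theorem up1 : cert.Upto 2 := up0.alive params blk0 (by decide)

theorem covers {G : Type*} [Group G] {g : ℕ → G} {H : Subgroup G}
    (h : Sat g H 3 iv rels subs) : Covers g 3 H 2 :=
  PCert.covers (p := cert) params rules (by decide +kernel) up1 h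

end CL.S64.T100.Efu

namespace CL.S64.T100.Efus
open CL.CE CL.K

noncomputable def tT0 : ℕ := nat_lit 0x1528bdb549882
noncomputable def tJ0 : ℕ := nat_lit 0x59915
noncomputable def tD0 : ℕ := nat_lit 0x101800
noncomputable def tT : Tr := (.leaf tT0)
noncomputable def tJ : Tr := (.leaf tJ0)
noncomputable def tD : Tr := (.leaf tD0)

def rels : List (List ℕ) := [[0,1],
  [1,0],
  [2,2],
  [3,4],
  [4,3],
  [0,0,0,0,0,0,0,0],
  [2,0,2,0,0,0],
  [3,0,4,0],
  [3,2,4,2],
  [3,3,0,0,0,0]]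
def subs : List (List ℕ) := [[0],
  [1],
  [2]]
def iv (a : ℕ) : ℕ := [1,0,2,4,3,5].getD a 0
noncomputable def RR0 : List Rule := [.sub [] [] 0 0,
  .bwd [4,0,3] 7 1 0]
noncomputable def RR1 : List Rule := [.bwd [0] 1 0 0]
noncomputable def RR2 : List Rule := [.sub [] [] 2 0,
  .bwd [4,2,3] 8 1 0]
noncomputable def RR3 : List Rule := [.bwd [0,0,0,0,3] 9 1 0]
noncomputable def RR4 : List Rule := [.bwd [3] 4 0 0]
noncomputable def RR : List (List Rule) := [RR0, RR1, RR2, RR3, RR4]
noncomputable def rowp (j : ℕ) : ℕ := piece tT (nat_lit 3) (nat_lit 7) (nat_lit 3200) (Nat.pred (Nat.shiftLeft 1 (nat_lit 3200))) j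
noncomputable def row (u : ℕ) : ℕ := rowOf rowp (nat_lit 7) (nat_lit 127) (nat_lit 25) u
noncomputable def jrowp (j : ℕ) : ℕ := piece tJ (nat_lit 3) (nat_lit 7) (nat_lit 2560) (Nat.pred (Nat.shiftLeft 1 (nat_lit 2560))) j
noncomputable def jrow (u : ℕ) : ℕ := rowOf jrowp (nat_lit 8) (nat_lit 255) (nat_lit 10) u
noncomputable def drowp (j : ℕ) : ℕ := piece tD (nat_lit 3) (nat_lit 7) (nat_lit 2816) (Nat.pred (Nat.shiftLeft 1 (nat_lit 2816))) j
noncomputable def drow (u : ℕ) : ℕ := rowOf drowp (nat_lit 8) (nat_lit 255) (nat_lit 11) u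
noncomputable def cert : PCert := ⟨(nat_lit 5), (nat_lit 5), (nat_lit 1), (nat_lit 5), (nat_lit 31), (nat_lit 30), (nat_lit 2), (nat_lit 1), (nat_lit 1), (nat_lit 2), (nat_lit 3), (nat_lit 2), (nat_lit 3), (nat_lit 2047), (nat_lit 0), row, jrow, drow, RR⟩
theorem params : cert.paramsOK = true := by decide +kernel
theorem rules : rulesOK rels subs iv cert.L cert.LL cert.RR = true := by decide +kernel
theorem blk0 : cert.alive (nat_lit 0) (nat_lit 1) (nat_lit 2) = 0 := by decide +kernel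
theorem up0 : cert.Upto 0 := PCert.upto_zero _
theorem up1 : cert.Upto 2 := up0.alive params blk0 (by decide)

theorem covers {G : Type*} [Group G] {g : ℕ → G} {H : Subgroup G}
    (h : Sat g H 5 iv rels subs) : Covers g 5 H 2 :=
  PCert.covers (p := cert) params rules (by decide +kernel) up1 h

end CL.S64.T100.Efus

namespace CL.S64.T100.Efusg
open CL.CE CL.K

noncomputable def tT0 : ℕ := nat_lit 0x1d0eeeb9bcdaa41882
noncomputable def tJ0 : ℕ := nat_lit 0x5699155
noncomputable def tD0 : ℕ := nat_lit 0x102800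
noncomputable def tT : Tr := (.leaf tT0)
noncomputable def tJ : Tr := (.leaf tJ0)
noncomputable def tD : Tr := (.leaf tD0)

def rels : List (List ℕ) := [[0,1],
  [1,0],
  [2,2],
  [3,4],
  [4,3],
  [5,6],
  [6,5],
  [0,0,0,0,0,0,0,0],
  [2,0,2,0,0,0],
  [3,0,4,0],
  [3,2,4,2],
  [5,0,6,1,2],
  [5,2,6,2],
  [3,3,0,0,0,0],
  [5,5],
  [5,3,6,4,2]]
def subs : List (List ℕ) := [[0],
  [1],
  [2],
  [3],
  [4]]
def iv (a : ℕ) : ℕ := [1,0,2,4,3,6,5,7].getD a 0
noncomputable def RR0 : List Rule := [.sub [] [] 0 0,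
  .bwd [6,1,2,5] 11 1 0]
noncomputable def RR1 : List Rule := [.bwd [0] 1 0 0]
noncomputable def RR2 : List Rule := [.sub [] [] 2 0,
  .bwd [6,2,5] 12 1 0]
noncomputable def RR3 : List Rule := [.sub [] [] 3 0,
  .bwd [6,4,2,5] 15 1 0]
noncomputable def RR4 : List Rule := [.bwd [3] 4 0 0]
noncomputable def RR5 : List Rule := [.bwd [5] 14 1 0]
noncomputable def RR6 : List Rule := [.bwd [5] 6 0 0]
noncomputable def RR : List (List Rule) := [RR0, RR1, RR2, RR3, RR4, RR5, RR6]
noncomputable def rowp (j : ℕ) : ℕ := piece tT (nat_lit 3) (nat_lit 7) (nat_lit 2240) (Nat.pred (Nat.shiftLeft 1 (nat_lit 2240))) j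
noncomputable def row (u : ℕ) : ℕ := rowOf rowp (nat_lit 6) (nat_lit 63) (nat_lit 35) u
noncomputable def jrowp (j : ℕ) : ℕ := piece tJ (nat_lit 3) (nat_lit 7) (nat_lit 3584) (Nat.pred (Nat.shiftLeft 1 (nat_lit 3584))) j
noncomputable def jrow (u : ℕ) : ℕ := rowOf jrowp (nat_lit 8) (nat_lit 255) (nat_lit 14) u
noncomputable def drowp (j : ℕ) : ℕ := piece tD (nat_lit 3) (nat_lit 7) (nat_lit 2816) (Nat.pred (Nat.shiftLeft 1 (nat_lit 2816))) j
noncomputable def drow (u : ℕ) : ℕ := rowOf drowp (nat_lit 8) (nat_lit 255) (nat_lit 11) u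
noncomputable def cert : PCert := ⟨(nat_lit 7), (nat_lit 7), (nat_lit 1), (nat_lit 5), (nat_lit 31), (nat_lit 30), (nat_lit 2), (nat_lit 1), (nat_lit 1), (nat_lit 2), (nat_lit 3), (nat_lit 2), (nat_lit 3), (nat_lit 2047), (nat_lit 0), row, jrow, drow, RR⟩
theorem params : cert.paramsOK = true := by decide +kernel
theorem rules : rulesOK rels subs iv cert.L cert.LL cert.RR = true := by decide +kernel
theorem blk0 : cert.alive (nat_lit 0) (nat_lit 1) (nat_lit 2) = 0 := by decide +kernel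
theorem up0 : cert.Upto 0 := PCert.upto_zero _
theorem up1 : cert.Upto 2 := up0.alive params blk0 (by decide)

theorem covers {G : Type*} [Group G] {g : ℕ → G} {H : Subgroup G}
    (h : Sat g H 7 iv rels subs) : Covers g 7 H 2 :=
  PCert.covers (p := cert) params rules (by decide +kernel) up1 h

end CL.S64.T100.Efusg

namespace CL.S64.T100
open CL.CE CL.K CL.Reg

def iv (a : ℕ) : ℕ := [1,0,2,4,3,6,5].getD a a
def Rels : List (List ℕ) := [[0,1], [1,0], [2,2], [3,4], [4,3], [5,6], [6,5], [0,0,0,0,0,0,0,0], [2,0,2,0,0,0], [3,0,4,0], [3,2,4,2], [5,0,6,1,2], [5,2,6,2], [3,3,0,0,0,0], [5,5], [5,3,6,4,2]]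

theorem idx_f {G : Type*} [Group G] {g : ℕ → G} (h : Pres g iv Rels) :
    IdxLe (gen g []) (gen g [[0], [1]]) 8 :=
  h.idxLe _ _ CL.S64.T100.Ef.covers (by decide +kernel)

theorem le_f {G : Type*} [Group G] {g : ℕ → G} (h : Pres g iv Rels) :
    CardLe (gen g [[0], [1]]) 8 :=
  (idx_f h).cardLe (cardLe_nil g) (by norm_num)

theorem idx_fu {G : Type*} [Group G] {g : ℕ → G} (h : Pres g iv Rels) :
    IdxLe (gen g [[0], [1]]) (gen g [[0], [1], [2]]) 2 :=
  h.idxLe _ _ CL.S64.T100.Efu.covers (by decide +kernel)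

theorem le_fu {G : Type*} [Group G] {g : ℕ → G} (h : Pres g iv Rels) :
    CardLe (gen g [[0], [1], [2]]) 16 :=
  (idx_fu h).cardLe (le_f h) (by norm_num)

theorem idx_fus {G : Type*} [Group G] {g : ℕ → G} (h : Pres g iv Rels) :
    IdxLe (gen g [[0], [1], [2]]) (gen g [[0], [1], [2], [3], [4]]) 2 :=
  h.idxLe _ _ CL.S64.T100.Efus.covers (by decide +kernel)

theorem le_fus {G : Type*} [Group G] {g : ℕ → G} (h : Pres g iv Rels) :
    CardLe (gen g [[0], [1], [2], [3], [4]]) 32 :=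
  (idx_fus h).cardLe (le_fu h) (by norm_num)

theorem idx_fusg {G : Type*} [Group G] {g : ℕ → G} (h : Pres g iv Rels) :
    IdxLe (gen g [[0], [1], [2], [3], [4]]) (gen g [[0], [1], [2], [3], [4], [5], [6]]) 2 :=
  h.idxLe _ _ CL.S64.T100.Efusg.covers (by decide +kernel)

theorem le_fusg {G : Type*} [Group G] {g : ℕ → G} (h : Pres g iv Rels) :
    CardLe (gen g [[0], [1], [2], [3], [4], [5], [6]]) 64 :=
  (idx_fusg h).cardLe (le_fus h) (by norm_num)

noncomputable def H_T : ℕ := nat_lit 0x8a2efcb76e3aead87cc67e7986def2a2083fa7ed2c7dfa7ff73afefa27a0be4f7d7a27ee95d773d1afea5966dcab0d669abb3557f4519e8db786fbf843263cbae438c57ecf3dac346fd38ec1acdcf8d372c50b77d3448d3d3eb3ccd48e53930cf7efd9c259762e8f179242f69fb6238d7637e0b79ef3b84b40a2b566cf5c249675afe6f6d8929158cb2c4482b94ebac8449e94aaa4d458d23fff9e8c2121c7fbda756bcf0c1fa38aefb1cce4f269a7ae4744de3838f487594537198a314d31b75e7c924b1cb8846208a272c6b4516a55caf410456a6eccf7dc41637660c3617190d9c7230c592e6db0e3125bda6aebdd883d759259837820b4cf0a55cb2742bc57f1c4276e120c30bee09e8edb5f822982041b2b66aa68a260658059e706691f1196659018e286181f78174001c6d569961858050a3d75c059324e55551301245040f38d3002cb2892001c6185103081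
noncomputable def H_W : ℕ := nat_lit 0x6131561146116511641153114311032606440163061305620462065206420632053204320622056104610261016106510641044105310431023101310611051104110311011100560046002600160065006400440063005300430023001300620052004200320022006100510041003100110006000500040003000200010000
noncomputable def H_I : ℕ := nat_lit 0xffcefef79eb5df0e33d32c76beeb6caeaa67a1d9648de85f82299760b41b71655350835938f4476892923061050c1080
noncomputable def H_dat : Dat := ⟨nat_lit 64, nat_lit 7, nat_lit 4, [1,0,2,4,3,6,5], tb (nat_lit 7) (nat_lit 6) (nat_lit 63) H_T,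
  fld (nat_lit 16) (nat_lit 65535) H_W, fld (nat_lit 6) (nat_lit 63) H_I⟩
theorem H_chk : H_dat.Chk Rels :=
  Dat.chk_of (a := 8) (b := 8) (by decide +kernel) rfl (by decide +kernel)
theorem H_good : H_dat.Good Rels := H_chk.good fun _ hg => le_fusg hg
/-- the group of the table -/
abbrev H : Type := RG H_dat H_good
theorem H_hom {G : Type*} [Group G] {g : ℕ → G} (hg : Pres g iv Rels) :
    ∃ φ : H →* G, φ.range = gen g [[0], [1], [2], [3], [4], [5], [6]] ∧
      ∀ w : List ℕ, ltAll 7 w = true → φ (RG.wd H_good w) = ev g w :=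
  RG.exists_hom hg fun _ hg' => le_fusg hg'

noncomputable def f : H := RG.mk' H_good (nat_lit 1)
noncomputable def u : H := RG.mk' H_good (nat_lit 3)
noncomputable def s : H := RG.mk' H_good (nat_lit 4)
noncomputable def g : H := RG.mk' H_good (nat_lit 6)
noncomputable def z : H := RG.mk' H_good (nat_lit 22)
theorem wd_f : RG.wd H_good [0] = f := by decide +kernel
theorem wd_u : RG.wd H_good [2] = u := by decide +kernel
theorem wd_s : RG.wd H_good [3] = s := by decide +kernel
theorem wd_g : RG.wd H_good [5] = g := by decide +kernel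

end CL.S64.T100

namespace CL.S64.T110.Ef
open CL.CE CL.K

noncomputable def tT0 : ℕ := nat_lit 0x7d766f6453875e42314d3c20102b1a09
noncomputable def tJ0 : ℕ := nat_lit 0x91514140
noncomputable def tD0 : ℕ := nat_lit 0x7c02d0055802201320040044000000
noncomputable def tT : Tr := (.leaf tT0)
noncomputable def tJ : Tr := (.leaf tJ0)
noncomputable def tD : Tr := (.leaf tD0)

def rels : List (List ℕ) := [[0,1],
  [1,0],
  [0,0,0,0,0,0,0,0]]
def subs : List (List ℕ) := []
def iv (a : ℕ) : ℕ := [1,0,2].getD a 0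
noncomputable def RR0 : List Rule := [.bwd [1] 0 0 0]
noncomputable def RR1 : List Rule := [.bwd [0] 1 0 0,
  .bwd [1,1,1,1,1,1,1] 2 1 1]
noncomputable def RR : List (List Rule) := [RR0, RR1]
noncomputable def rowp (j : ℕ) : ℕ := piece tT (nat_lit 3) (nat_lit 7) (nat_lit 4096) (Nat.pred (Nat.shiftLeft 1 (nat_lit 4096))) j
noncomputable def row (u : ℕ) : ℕ := rowOf rowp (nat_lit 8) (nat_lit 255) (nat_lit 16) u
noncomputable def jrowp (j : ℕ) : ℕ := piece tJ (nat_lit 3) (nat_lit 7) (nat_lit 4096) (Nat.pred (Nat.shiftLeft 1 (nat_lit 4096))) j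
noncomputable def jrow (u : ℕ) : ℕ := rowOf jrowp (nat_lit 10) (nat_lit 1023) (nat_lit 4) u
noncomputable def drowp (j : ℕ) : ℕ := piece tD (nat_lit 3) (nat_lit 7) (nat_lit 3840) (Nat.pred (Nat.shiftLeft 1 (nat_lit 3840))) j
noncomputable def drow (u : ℕ) : ℕ := rowOf drowp (nat_lit 8) (nat_lit 255) (nat_lit 15) u
noncomputable def cert : PCert := ⟨(nat_lit 2), (nat_lit 2), (nat_lit 7), (nat_lit 8), (nat_lit 255), (nat_lit 254), (nat_lit 8), (nat_lit 7), (nat_lit 7), (nat_lit 2), (nat_lit 3), (nat_lit 2), (nat_lit 3), (nat_lit 32767), (nat_lit 0), row, jrow, drow, RR⟩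
theorem params : cert.paramsOK = true := by decide +kernel
theorem rules : rulesOK rels subs iv cert.L cert.LL cert.RR = true := by decide +kernel
theorem blk0 : cert.alive (nat_lit 0) (nat_lit 1) (nat_lit 8) = 0 := by decide +kernel
theorem up0 : cert.Upto 0 := PCert.upto_zero _
theorem up1 : cert.Upto 8 := up0.alive params blk0 (by decide)

theorem covers {G : Type*} [Group G] {g : ℕ → G} {H : Subgroup G}
    (h : Sat g H 2 iv rels subs) : Covers g 2 H 8 :=
  PCert.covers (p := cert) params rules (by decide +kernel) up1 h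

end CL.S64.T110.Ef

namespace CL.S64.T110.Efu
open CL.CE CL.K

noncomputable def tT0 : ℕ := nat_lit 0x8db742
noncomputable def tJ0 : ℕ := nat_lit 0x585
noncomputable def tD0 : ℕ := nat_lit 0x101000
noncomputable def tT : Tr := (.leaf tT0)
noncomputable def tJ : Tr := (.leaf tJ0)
noncomputable def tD : Tr := (.leaf tD0)

def rels : List (List ℕ) := [[0,1],
  [1,0],
  [2,2],
  [0,0,0,0,0,0,0,0],
  [2,0,2,0,0,0]]
def subs : List (List ℕ) := [[0],
  [1]]
def iv (a : ℕ) : ℕ := [1,0,2,3].getD a 0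
noncomputable def RR0 : List Rule := [.sub [] [] 0 0,
  .bwd [2,0,0,0,2] 4 1 0]
noncomputable def RR1 : List Rule := [.bwd [0] 1 0 0]
noncomputable def RR2 : List Rule := [.bwd [2] 2 0 0]
noncomputable def RR : List (List Rule) := [RR0, RR1, RR2]
noncomputable def rowp (j : ℕ) : ℕ := piece tT (nat_lit 3) (nat_lit 7) (nat_lit 3072) (Nat.pred (Nat.shiftLeft 1 (nat_lit 3072))) j
noncomputable def row (u : ℕ) : ℕ := rowOf rowp (nat_lit 8) (nat_lit 255) (nat_lit 12) u
noncomputable def jrowp (j : ℕ) : ℕ := piece tJ (nat_lit 3) (nat_lit 7) (nat_lit 3072) (Nat.pred (Nat.shiftLeft 1 (nat_lit 3072))) j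
noncomputable def jrow (u : ℕ) : ℕ := rowOf jrowp (nat_lit 9) (nat_lit 511) (nat_lit 6) u
noncomputable def drowp (j : ℕ) : ℕ := piece tD (nat_lit 3) (nat_lit 7) (nat_lit 2816) (Nat.pred (Nat.shiftLeft 1 (nat_lit 2816))) j
noncomputable def drow (u : ℕ) : ℕ := rowOf drowp (nat_lit 8) (nat_lit 255) (nat_lit 11) u
noncomputable def cert : PCert := ⟨(nat_lit 3), (nat_lit 3), (nat_lit 1), (nat_lit 4), (nat_lit 15), (nat_lit 14), (nat_lit 2), (nat_lit 1), (nat_lit 1), (nat_lit 2), (nat_lit 3), (nat_lit 2), (nat_lit 3), (nat_lit 2047), (nat_lit 0), row, jrow, drow, RR⟩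
theorem params : cert.paramsOK = true := by decide +kernel
theorem rules : rulesOK rels subs iv cert.L cert.LL cert.RR = true := by decide +kernel
theorem blk0 : cert.alive (nat_lit 0) (nat_lit 1) (nat_lit 2) = 0 := by decide +kernel
theorem up0 : cert.Upto 0 := PCert.upto_zero _
theorem up1 : cert.Upto 2 := up0.alive params blk0 (by decide)

theorem covers {G : Type*} [Group G] {g : ℕ → G} {H : Subgroup G}
    (h : Sat g H 3 iv rels subs) : Covers g 3 H 2 :=
  PCert.covers (p := cert) params rules (by decide +kernel) up1 h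

end CL.S64.T110.Efu

namespace CL.S64.T110.Efus
open CL.CE CL.K

noncomputable def tT0 : ℕ := nat_lit 0x1528bdb549882
noncomputable def tJ0 : ℕ := nat_lit 0x59915
noncomputable def tD0 : ℕ := nat_lit 0x101800
noncomputable def tT : Tr := (.leaf tT0)
noncomputable def tJ : Tr := (.leaf tJ0)
noncomputable def tD : Tr := (.leaf tD0)

def rels : List (List ℕ) := [[0,1],
  [1,0],
  [2,2],
  [3,4],
  [4,3],
  [0,0,0,0,0,0,0,0],
  [2,0,2,0,0,0],
  [3,0,4,0],
  [3,2,4,2],
  [3,3,0,0,0,0]]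
def subs : List (List ℕ) := [[0],
  [1],
  [2]]
def iv (a : ℕ) : ℕ := [1,0,2,4,3,5].getD a 0
noncomputable def RR0 : List Rule := [.sub [] [] 0 0,
  .bwd [4,0,3] 7 1 0]
noncomputable def RR1 : List Rule := [.bwd [0] 1 0 0]
noncomputable def RR2 : List Rule := [.sub [] [] 2 0,
  .bwd [4,2,3] 8 1 0]
noncomputable def RR3 : List Rule := [.bwd [0,0,0,0,3] 9 1 0]
noncomputable def RR4 : List Rule := [.bwd [3] 4 0 0]
noncomputable def RR : List (List Rule) := [RR0, RR1, RR2, RR3, RR4]
noncomputable def rowp (j : ℕ) : ℕ := piece tT (nat_lit 3) (nat_lit 7) (nat_lit 3200) (Nat.pred (Nat.shiftLeft 1 (nat_lit 3200))) j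
noncomputable def row (u : ℕ) : ℕ := rowOf rowp (nat_lit 7) (nat_lit 127) (nat_lit 25) u
noncomputable def jrowp (j : ℕ) : ℕ := piece tJ (nat_lit 3) (nat_lit 7) (nat_lit 2560) (Nat.pred (Nat.shiftLeft 1 (nat_lit 2560))) j
noncomputable def jrow (u : ℕ) : ℕ := rowOf jrowp (nat_lit 8) (nat_lit 255) (nat_lit 10) u
noncomputable def drowp (j : ℕ) : ℕ := piece tD (nat_lit 3) (nat_lit 7) (nat_lit 2816) (Nat.pred (Nat.shiftLeft 1 (nat_lit 2816))) j
noncomputable def drow (u : ℕ) : ℕ := rowOf drowp (nat_lit 8) (nat_lit 255) (nat_lit 11) u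
noncomputable def cert : PCert := ⟨(nat_lit 5), (nat_lit 5), (nat_lit 1), (nat_lit 5), (nat_lit 31), (nat_lit 30), (nat_lit 2), (nat_lit 1), (nat_lit 1), (nat_lit 2), (nat_lit 3), (nat_lit 2), (nat_lit 3), (nat_lit 2047), (nat_lit 0), row, jrow, drow, RR⟩
theorem params : cert.paramsOK = true := by decide +kernel
theorem rules : rulesOK rels subs iv cert.L cert.LL cert.RR = true := by decide +kernel
theorem blk0 : cert.alive (nat_lit 0) (nat_lit 1) (nat_lit 2) = 0 := by decide +kernel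
theorem up0 : cert.Upto 0 := PCert.upto_zero _
theorem up1 : cert.Upto 2 := up0.alive params blk0 (by decide)

theorem covers {G : Type*} [Group G] {g : ℕ → G} {H : Subgroup G}
    (h : Sat g H 5 iv rels subs) : Covers g 5 H 2 :=
  PCert.covers (p := cert) params rules (by decide +kernel) up1 h

end CL.S64.T110.Efus

namespace CL.S64.T110.Efusg
open CL.CE CL.K

noncomputable def tT0 : ℕ := nat_lit 0x1dacde359f5aa41882
noncomputable def tJ0 : ℕ := nat_lit 0x5699155
noncomputable def tD0 : ℕ := nat_lit 0x102800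
noncomputable def tT : Tr := (.leaf tT0)
noncomputable def tJ : Tr := (.leaf tJ0)
noncomputable def tD : Tr := (.leaf tD0)

def rels : List (List ℕ) := [[0,1],
  [1,0],
  [2,2],
  [3,4],
  [4,3],
  [5,6],
  [6,5],
  [0,0,0,0,0,0,0,0],
  [2,0,2,0,0,0],
  [3,0,4,0],
  [3,2,4,2],
  [5,0,6,1,2],
  [5,2,6,2],
  [3,3,0,0,0,0],
  [5,5,0,0,0,0],
  [5,3,6,4,2]]
def subs : List (List ℕ) := [[0],
  [1],
  [2],
  [3],
  [4]]
def iv (a : ℕ) : ℕ := [1,0,2,4,3,6,5,7].getD a 0
noncomputable def RR0 : List Rule := [.sub [] [] 0 0,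
  .bwd [6,1,2,5] 11 1 0]
noncomputable def RR1 : List Rule := [.bwd [0] 1 0 0]
noncomputable def RR2 : List Rule := [.sub [] [] 2 0,
  .bwd [6,2,5] 12 1 0]
noncomputable def RR3 : List Rule := [.sub [] [] 3 0,
  .bwd [6,4,2,5] 15 1 0]
noncomputable def RR4 : List Rule := [.bwd [3] 4 0 0]
noncomputable def RR5 : List Rule := [.bwd [0,0,0,0,5] 14 1 0]
noncomputable def RR6 : List Rule := [.bwd [5] 6 0 0]
noncomputable def RR : List (List Rule) := [RR0, RR1, RR2, RR3, RR4, RR5, RR6]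
noncomputable def rowp (j : ℕ) : ℕ := piece tT (nat_lit 3) (nat_lit 7) (nat_lit 2240) (Nat.pred (Nat.shiftLeft 1 (nat_lit 2240))) j
noncomputable def row (u : ℕ) : ℕ := rowOf rowp (nat_lit 6) (nat_lit 63) (nat_lit 35) u
noncomputable def jrowp (j : ℕ) : ℕ := piece tJ (nat_lit 3) (nat_lit 7) (nat_lit 3584) (Nat.pred (Nat.shiftLeft 1 (nat_lit 3584))) j
noncomputable def jrow (u : ℕ) : ℕ := rowOf jrowp (nat_lit 8) (nat_lit 255) (nat_lit 14) u
noncomputable def drowp (j : ℕ) : ℕ := piece tD (nat_lit 3) (nat_lit 7) (nat_lit 2816) (Nat.pred (Nat.shiftLeft 1 (nat_lit 2816))) j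
noncomputable def drow (u : ℕ) : ℕ := rowOf drowp (nat_lit 8) (nat_lit 255) (nat_lit 11) u
noncomputable def cert : PCert := ⟨(nat_lit 7), (nat_lit 7), (nat_lit 1), (nat_lit 5), (nat_lit 31), (nat_lit 30), (nat_lit 2), (nat_lit 1), (nat_lit 1), (nat_lit 2), (nat_lit 3), (nat_lit 2), (nat_lit 3), (nat_lit 2047), (nat_lit 0), row, jrow, drow, RR⟩
theorem params : cert.paramsOK = true := by decide +kernel
theorem rules : rulesOK rels subs iv cert.L cert.LL cert.RR = true := by decide +kernel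
theorem blk0 : cert.alive (nat_lit 0) (nat_lit 1) (nat_lit 2) = 0 := by decide +kernel
theorem up0 : cert.Upto 0 := PCert.upto_zero _
theorem up1 : cert.Upto 2 := up0.alive params blk0 (by decide)

theorem covers {G : Type*} [Group G] {g : ℕ → G} {H : Subgroup G}
    (h : Sat g H 7 iv rels subs) : Covers g 7 H 2 :=
  PCert.covers (p := cert) params rules (by decide +kernel) up1 h

end CL.S64.T110.Efusg

namespace CL.S64.T110
open CL.CE CL.K CL.Reg

def iv (a : ℕ) : ℕ := [1,0,2,4,3,6,5].getD a a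
def Rels : List (List ℕ) := [[0,1], [1,0], [2,2], [3,4], [4,3], [5,6], [6,5], [0,0,0,0,0,0,0,0], [2,0,2,0,0,0], [3,0,4,0], [3,2,4,2], [5,0,6,1,2], [5,2,6,2], [3,3,0,0,0,0], [5,5,0,0,0,0], [5,3,6,4,2]]

theorem idx_f {G : Type*} [Group G] {g : ℕ → G} (h : Pres g iv Rels) :
    IdxLe (gen g []) (gen g [[0], [1]]) 8 :=
  h.idxLe _ _ CL.S64.T110.Ef.covers (by decide +kernel)

theorem le_f {G : Type*} [Group G] {g : ℕ → G} (h : Pres g iv Rels) :
    CardLe (gen g [[0], [1]]) 8 :=
  (idx_f h).cardLe (cardLe_nil g) (by norm_num)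

theorem idx_fu {G : Type*} [Group G] {g : ℕ → G} (h : Pres g iv Rels) :
    IdxLe (gen g [[0], [1]]) (gen g [[0], [1], [2]]) 2 :=
  h.idxLe _ _ CL.S64.T110.Efu.covers (by decide +kernel)

theorem le_fu {G : Type*} [Group G] {g : ℕ → G} (h : Pres g iv Rels) :
    CardLe (gen g [[0], [1], [2]]) 16 :=
  (idx_fu h).cardLe (le_f h) (by norm_num)

theorem idx_fus {G : Type*} [Group G] {g : ℕ → G} (h : Pres g iv Rels) :
    IdxLe (gen g [[0], [1], [2]]) (gen g [[0], [1], [2], [3], [4]]) 2 :=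
  h.idxLe _ _ CL.S64.T110.Efus.covers (by decide +kernel)

theorem le_fus {G : Type*} [Group G] {g : ℕ → G} (h : Pres g iv Rels) :
    CardLe (gen g [[0], [1], [2], [3], [4]]) 32 :=
  (idx_fus h).cardLe (le_fu h) (by norm_num)

theorem idx_fusg {G : Type*} [Group G] {g : ℕ → G} (h : Pres g iv Rels) :
    IdxLe (gen g [[0], [1], [2], [3], [4]]) (gen g [[0], [1], [2], [3], [4], [5], [6]]) 2 :=
  h.idxLe _ _ CL.S64.T110.Efusg.covers (by decide +kernel)

theorem le_fusg {G : Type*} [Group G] {g : ℕ → G} (h : Pres g iv Rels) :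
    CardLe (gen g [[0], [1], [2], [3], [4], [5], [6]]) 64 :=
  (idx_fusg h).cardLe (le_fus h) (by norm_num)

noncomputable def H_T : ℕ := nat_lit 0xefaa27f76bbaee7a3cdef9a5cf0ff9ca59b0cfee31fbfa649b5afffa4a65d2cd744d2ddcf74d524f66fc4507a2e5ff904627b883fe3954f456ef9e0f5505faa64f3da0d4ecacd32ff5baec30dbbc724a7df273122ca85dcbe80a2dd871fdf30d28b51a3b1c9424be96cb12542bb5d86565da3c9c33ebb38954e23eff376220effec217bcf4e23b40bf7c20ee912b3c3be8850f49341154868f577d92a07509baf3479d758719cbf65971876eedd53f6dd39c6254bee306a05119620c791056197f2e061c416a8eda836dc1d3303a9c6c648d7e0a8316bd207c3a84b3589ed358e90dd86bb2d0e48c2e397b36428f9e22c18db78c2d45977d828f41267a2d740a4aa7a259a9b42b41c72858cc1b72c5d670bafb41b2616fb81b6b94485db2b06aa689e69640636807e06628406a07d879d6dc6805cb45c6c06962906585d601551349140f38034c2ca240207185103081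
noncomputable def H_W : ℕ := nat_lit 0x5611461174116411531143110562046207420642053204320171056104610161074106410441053104310231013107110611051104110311011100270017005600460026001600740064004400730063005300430023001300720062005200420032002200710061005100410031001100070006000500040003000200010000
noncomputable def H_I : ℕ := nat_lit 0xf3dfbfebbe78db7d74c31cb3bee8ecaea927a259a9b4c49c6cd4e07da61959724f7614115087a228b54e1871050c1080
noncomputable def H_dat : Dat := ⟨nat_lit 64, nat_lit 7, nat_lit 4, [1,0,2,4,3,6,5], tb (nat_lit 7) (nat_lit 6) (nat_lit 63) H_T,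
  fld (nat_lit 16) (nat_lit 65535) H_W, fld (nat_lit 6) (nat_lit 63) H_I⟩
theorem H_chk : H_dat.Chk Rels :=
  Dat.chk_of (a := 8) (b := 8) (by decide +kernel) rfl (by decide +kernel)
theorem H_good : H_dat.Good Rels := H_chk.good fun _ hg => le_fusg hg
/-- the group of the table -/
abbrev H : Type := RG H_dat H_good
theorem H_hom {G : Type*} [Group G] {g : ℕ → G} (hg : Pres g iv Rels) :
    ∃ φ : H →* G, φ.range = gen g [[0], [1], [2], [3], [4], [5], [6]] ∧
      ∀ w : List ℕ, ltAll 7 w = true → φ (RG.wd H_good w) = ev g w :=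
  RG.exists_hom hg fun _ hg' => le_fusg hg'

noncomputable def f : H := RG.mk' H_good (nat_lit 1)
noncomputable def u : H := RG.mk' H_good (nat_lit 3)
noncomputable def s : H := RG.mk' H_good (nat_lit 4)
noncomputable def g : H := RG.mk' H_good (nat_lit 6)
noncomputable def z : H := RG.mk' H_good (nat_lit 26)
theorem wd_f : RG.wd H_good [0] = f := by decide +kernel
theorem wd_u : RG.wd H_good [2] = u := by decide +kernel
theorem wd_s : RG.wd H_good [3] = s := by decide +kernel
theorem wd_g : RG.wd H_good [5] = g := by decide +kernel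

end CL.S64.T110

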