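/- Groups of order 64 as tables (generated). -/
import Cfsg.Agent.SPOR.A10.Reg
set_option autoImplicit false
set_option maxRecDepth 100000

namespace CL.S64.T001.Ef
open CL.CE CL.K

noncomputable def tT0 : ℕ := nat_lit 0x7d766f6453875e42314d3c20102b1a09
noncomputable def tJ0 : ℕ := nat_lit 0x91514140
noncomputable def tD0 : ℕ := nat_lit 0x7c02d0055802201320040044000000
noncomputable def tT : Tr := (.leaf tT0)
noncomputable def tJ : Tr := (.leaf tJ0)
noncomputable def tD : Tr := (.leaf tD0)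

def rels : List (List ℕ) := [[0,1],
  [1,0],
  [0,0,0,0,0,0,0,0]]
def subs : List (List ℕ) := []
def iv (a : ℕ) : ℕ := [1,0,2].getD a 0
noncomputable def RR0 : List Rule := [.bwd [1] 0 0 0]
noncomputable def RR1 : List Rule := [.bwd [0] 1 0 0,
  .bwd [1,1,1,1,1,1,1] 2 1 1]
noncomputable def RR : List (List Rule) := [RR0, RR1]
noncomputable def rowp (j : ℕ) : ℕ := piece tT (nat_lit 3) (nat_lit 7) (nat_lit 4096) (Nat.pred (Nat.shiftLeft 1 (nat_lit 4096))) j
noncomputable def row (u : ℕ) : ℕ := rowOf rowp (nat_lit 8) (nat_lit 255) (nat_lit 16) u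
noncomputable def jrowp (j : ℕ) : ℕ := piece tJ (nat_lit 3) (nat_lit 7) (nat_lit 4096) (Nat.pred (Nat.shiftLeft 1 (nat_lit 4096))) j
noncomputable def jrow (u : ℕ) : ℕ := rowOf jrowp (nat_lit 10) (nat_lit 1023) (nat_lit 4) u
noncomputable def drowp (j : ℕ) : ℕ := piece tD (nat_lit 3) (nat_lit 7) (nat_lit 3840) (Nat.pred (Nat.shiftLeft 1 (nat_lit 3840))) j
noncomputable def drow (u : ℕ) : ℕ := rowOf drowp (nat_lit 8) (nat_lit 255) (nat_lit 15) u
noncomputable def cert : PCert := ⟨(nat_lit 2), (nat_lit 2), (nat_lit 7), (nat_lit 8), (nat_lit 255), (nat_lit 254), (nat_lit 8), (nat_lit 7), (nat_lit 7), (nat_lit 2), (nat_lit 3), (nat_lit 2), (nat_lit 3), (nat_lit 32767), (nat_lit 0), row, jrow, drow, RR⟩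
theorem params : cert.paramsOK = true := by decide +kernel
theorem rules : rulesOK rels subs iv cert.L cert.LL cert.RR = true := by decide +kernel
theorem blk0 : cert.alive (nat_lit 0) (nat_lit 1) (nat_lit 8) = 0 := by decide +kernel
theorem up0 : cert.Upto 0 := PCert.upto_zero _
theorem up1 : cert.Upto 8 := up0.alive params blk0 (by decide)

theorem covers {G : Type*} [Group G] {g : ℕ → G} {H : Subgroup G}
    (h : Sat g H 2 iv rels subs) : Covers g 2 H 8 :=
  PCert.covers (p := cert) params rules (by decide +kernel) up1 h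

end CL.S64.T001.Ef

namespace CL.S64.T001.Efu
open CL.CE CL.K

noncomputable def tT0 : ℕ := nat_lit 0x8db742
noncomputable def tJ0 : ℕ := nat_lit 0x585
noncomputable def tD0 : ℕ := nat_lit 0x101000
noncomputable def tT : Tr := (.leaf tT0)
noncomputable def tJ : Tr := (.leaf tJ0)
noncomputable def tD : Tr := (.leaf tD0)

def rels : List (List ℕ) := [[0,1],
  [1,0],
  [2,2],
  [0,0,0,0,0,0,0,0],
  [2,0,2,0,0,0]]
def subs : List (List ℕ) := [[0],
  [1]]
def iv (a : ℕ) : ℕ := [1,0,2,3].getD a 0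
noncomputable def RR0 : List Rule := [.sub [] [] 0 0,
  .bwd [2,0,0,0,2] 4 1 0]
noncomputable def RR1 : List Rule := [.bwd [0] 1 0 0]
noncomputable def RR2 : List Rule := [.bwd [2] 2 0 0]
noncomputable def RR : List (List Rule) := [RR0, RR1, RR2]
noncomputable def rowp (j : ℕ) : ℕ := piece tT (nat_lit 3) (nat_lit 7) (nat_lit 3072) (Nat.pred (Nat.shiftLeft 1 (nat_lit 3072))) j
noncomputable def row (u : ℕ) : ℕ := rowOf rowp (nat_lit 8) (nat_lit 255) (nat_lit 12) u
noncomputable def jrowp (j : ℕ) : ℕ := piece tJ (nat_lit 3) (nat_lit 7) (nat_lit 3072) (Nat.pred (Nat.shiftLeft 1 (nat_lit 3072))) j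
noncomputable def jrow (u : ℕ) : ℕ := rowOf jrowp (nat_lit 9) (nat_lit 511) (nat_lit 6) u
noncomputable def drowp (j : ℕ) : ℕ := piece tD (nat_lit 3) (nat_lit 7) (nat_lit 2816) (Nat.pred (Nat.shiftLeft 1 (nat_lit 2816))) j
noncomputable def drow (u : ℕ) : ℕ := rowOf drowp (nat_lit 8) (nat_lit 255) (nat_lit 11) u
noncomputable def cert : PCert := ⟨(nat_lit 3), (nat_lit 3), (nat_lit 1), (nat_lit 4), (nat_lit 15), (nat_lit 14), (nat_lit 2), (nat_lit 1), (nat_lit 1), (nat_lit 2), (nat_lit 3), (nat_lit 2), (nat_lit 3), (nat_lit 2047), (nat_lit 0), row, jrow, drow, RR⟩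
theorem params : cert.paramsOK = true := by decide +kernel
theorem rules : rulesOK rels subs iv cert.L cert.LL cert.RR = true := by decide +kernel
theorem blk0 : cert.alive (nat_lit 0) (nat_lit 1) (nat_lit 2) = 0 := by decide +kernel
theorem up0 : cert.Upto 0 := PCert.upto_zero _
theorem up1 : cert.Upto 2 := up0.alive params blk0 (by decide)

theorem covers {G : Type*} [Group G] {g : ℕ → G} {H : Subgroup G}
    (h : Sat g H 3 iv rels subs) : Covers g 3 H 2 :=
  PCert.covers (p := cert) params rules (by decide +kernel) up1 h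

end CL.S64.T001.Efu

namespace CL.S64.T001.Efus
open CL.CE CL.K

noncomputable def tT0 : ℕ := nat_lit 0x14cace2f49882
noncomputable def tJ0 : ℕ := nat_lit 0x59915
noncomputable def tD0 : ℕ := nat_lit 0x101800
noncomputable def tT : Tr := (.leaf tT0)
noncomputable def tJ : Tr := (.leaf tJ0)
noncomputable def tD : Tr := (.leaf tD0)

def rels : List (List ℕ) := [[0,1],
  [1,0],
  [2,2],
  [3,4],
  [4,3],
  [0,0,0,0,0,0,0,0],
  [2,0,2,0,0,0],
  [3,0,4,0],
  [3,2,4,2],
  [3,3]]
def subs : List (List ℕ) := [[0],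
  [1],
  [2]]
def iv (a : ℕ) : ℕ := [1,0,2,4,3,5].getD a 0
noncomputable def RR0 : List Rule := [.sub [] [] 0 0,
  .bwd [4,0,3] 7 1 0]
noncomputable def RR1 : List Rule := [.bwd [0] 1 0 0]
noncomputable def RR2 : List Rule := [.sub [] [] 2 0,
  .bwd [4,2,3] 8 1 0]
noncomputable def RR3 : List Rule := [.bwd [3] 9 1 0]
noncomputable def RR4 : List Rule := [.bwd [3] 4 0 0]
noncomputable def RR : List (List Rule) := [RR0, RR1, RR2, RR3, RR4]
noncomputable def rowp (j : ℕ) : ℕ := piece tT (nat_lit 3) (nat_lit 7) (nat_lit 3200) (Nat.pred (Nat.shiftLeft 1 (nat_lit 3200))) j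
noncomputable def row (u : ℕ) : ℕ := rowOf rowp (nat_lit 7) (nat_lit 127) (nat_lit 25) u
noncomputable def jrowp (j : ℕ) : ℕ := piece tJ (nat_lit 3) (nat_lit 7) (nat_lit 2560) (Nat.pred (Nat.shiftLeft 1 (nat_lit 2560))) j
noncomputable def jrow (u : ℕ) : ℕ := rowOf jrowp (nat_lit 8) (nat_lit 255) (nat_lit 10) u
noncomputable def drowp (j : ℕ) : ℕ := piece tD (nat_lit 3) (nat_lit 7) (nat_lit 2816) (Nat.pred (Nat.shiftLeft 1 (nat_lit 2816))) j
noncomputable def drow (u : ℕ) : ℕ := rowOf drowp (nat_lit 8) (nat_lit 255) (nat_lit 11) u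
noncomputable def cert : PCert := ⟨(nat_lit 5), (nat_lit 5), (nat_lit 1), (nat_lit 5), (nat_lit 31), (nat_lit 30), (nat_lit 2), (nat_lit 1), (nat_lit 1), (nat_lit 2), (nat_lit 3), (nat_lit 2), (nat_lit 3), (nat_lit 2047), (nat_lit 0), row, jrow, drow, RR⟩
theorem params : cert.paramsOK = true := by decide +kernel
theorem rules : rulesOK rels subs iv cert.L cert.LL cert.RR = true := by decide +kernel
theorem blk0 : cert.alive (nat_lit 0) (nat_lit 1) (nat_lit 2) = 0 := by decide +kernel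
theorem up0 : cert.Upto 0 := PCert.upto_zero _
theorem up1 : cert.Upto 2 := up0.alive params blk0 (by decide)

theorem covers {G : Type*} [Group G] {g : ℕ → G} {H : Subgroup G}
    (h : Sat g H 5 iv rels subs) : Covers g 5 H 2 :=
  PCert.covers (p := cert) params rules (by decide +kernel) up1 h

end CL.S64.T001.Efus

namespace CL.S64.T001.Efusg
open CL.CE CL.K

noncomputable def tT0 : ℕ := nat_lit 0x1d0eeeb9bcdaa41882
noncomputable def tJ0 : ℕ := nat_lit 0x5699155
noncomputable def tD0 : ℕ := nat_lit 0x102800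
noncomputable def tT : Tr := (.leaf tT0)
noncomputable def tJ : Tr := (.leaf tJ0)
noncomputable def tD : Tr := (.leaf tD0)

def rels : List (List ℕ) := [[0,1],
  [1,0],
  [2,2],
  [3,4],
  [4,3],
  [5,6],
  [6,5],
  [0,0,0,0,0,0,0,0],
  [2,0,2,0,0,0],
  [3,0,4,0],
  [3,2,4,2],
  [5,0,6,1,2],
  [5,2,6,2],
  [3,3],
  [5,5],
  [5,3,6,1,1,4,2]]
def subs : List (List ℕ) := [[0],
  [1],
  [2],
  [3],
  [4]]
def iv (a : ℕ) : ℕ := [1,0,2,4,3,6,5,7].getD a 0
noncomputable def RR0 : List Rule := [.sub [] [] 0 0,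
  .bwd [6,1,2,5] 11 1 0]
noncomputable def RR1 : List Rule := [.bwd [0] 1 0 0]
noncomputable def RR2 : List Rule := [.sub [] [] 2 0,
  .bwd [6,2,5] 12 1 0]
noncomputable def RR3 : List Rule := [.sub [] [] 3 0,
  .bwd [6,1,1,4,2,5] 15 1 0]
noncomputable def RR4 : List Rule := [.bwd [3] 4 0 0]
noncomputable def RR5 : List Rule := [.bwd [5] 14 1 0]
noncomputable def RR6 : List Rule := [.bwd [5] 6 0 0]
noncomputable def RR : List (List Rule) := [RR0, RR1, RR2, RR3, RR4, RR5, RR6]
noncomputable def rowp (j : ℕ) : ℕ := piece tT (nat_lit 3) (nat_lit 7) (nat_lit 2240) (Nat.pred (Nat.shiftLeft 1 (nat_lit 2240))) j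
noncomputable def row (u : ℕ) : ℕ := rowOf rowp (nat_lit 6) (nat_lit 63) (nat_lit 35) u
noncomputable def jrowp (j : ℕ) : ℕ := piece tJ (nat_lit 3) (nat_lit 7) (nat_lit 3584) (Nat.pred (Nat.shiftLeft 1 (nat_lit 3584))) j
noncomputable def jrow (u : ℕ) : ℕ := rowOf jrowp (nat_lit 8) (nat_lit 255) (nat_lit 14) u
noncomputable def drowp (j : ℕ) : ℕ := piece tD (nat_lit 3) (nat_lit 7) (nat_lit 2816) (Nat.pred (Nat.shiftLeft 1 (nat_lit 2816))) j
noncomputable def drow (u : ℕ) : ℕ := rowOf drowp (nat_lit 8) (nat_lit 255) (nat_lit 11) u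
noncomputable def cert : PCert := ⟨(nat_lit 7), (nat_lit 7), (nat_lit 1), (nat_lit 5), (nat_lit 31), (nat_lit 30), (nat_lit 2), (nat_lit 1), (nat_lit 1), (nat_lit 2), (nat_lit 3), (nat_lit 2), (nat_lit 3), (nat_lit 2047), (nat_lit 0), row, jrow, drow, RR⟩
theorem params : cert.paramsOK = true := by decide +kernel
theorem rules : rulesOK rels subs iv cert.L cert.LL cert.RR = true := by decide +kernel
theorem blk0 : cert.alive (nat_lit 0) (nat_lit 1) (nat_lit 2) = 0 := by decide +kernel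
theorem up0 : cert.Upto 0 := PCert.upto_zero _
theorem up1 : cert.Upto 2 := up0.alive params blk0 (by decide)

theorem covers {G : Type*} [Group G] {g : ℕ → G} {H : Subgroup G}
    (h : Sat g H 7 iv rels subs) : Covers g 7 H 2 :=
  PCert.covers (p := cert) params rules (by decide +kernel) up1 h

end CL.S64.T001.Efusg

namespace CL.S64.T001
open CL.CE CL.K CL.Reg

def iv (a : ℕ) : ℕ := [1,0,2,4,3,6,5].getD a a
def Rels : List (List ℕ) := [[0,1], [1,0], [2,2], [3,4], [4,3], [5,6], [6,5], [0,0,0,0,0,0,0,0], [2,0,2,0,0,0], [3,0,4,0], [3,2,4,2], [5,0,6,1,2], [5,2,6,2], [3,3], [5,5], [5,3,6,1,1,4,2]]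

theorem idx_f {G : Type*} [Group G] {g : ℕ → G} (h : Pres g iv Rels) :
    IdxLe (gen g []) (gen g [[0], [1]]) 8 :=
  h.idxLe _ _ CL.S64.T001.Ef.covers (by decide +kernel)

theorem le_f {G : Type*} [Group G] {g : ℕ → G} (h : Pres g iv Rels) :
    CardLe (gen g [[0], [1]]) 8 :=
  (idx_f h).cardLe (cardLe_nil g) (by norm_num)

theorem idx_fu {G : Type*} [Group G] {g : ℕ → G} (h : Pres g iv Rels) :
    IdxLe (gen g [[0], [1]]) (gen g [[0], [1], [2]]) 2 :=
  h.idxLe _ _ CL.S64.T001.Efu.covers (by decide +kernel)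

theorem le_fu {G : Type*} [Group G] {g : ℕ → G} (h : Pres g iv Rels) :
    CardLe (gen g [[0], [1], [2]]) 16 :=
  (idx_fu h).cardLe (le_f h) (by norm_num)

theorem idx_fus {G : Type*} [Group G] {g : ℕ → G} (h : Pres g iv Rels) :
    IdxLe (gen g [[0], [1], [2]]) (gen g [[0], [1], [2], [3], [4]]) 2 :=
  h.idxLe _ _ CL.S64.T001.Efus.covers (by decide +kernel)

theorem le_fus {G : Type*} [Group G] {g : ℕ → G} (h : Pres g iv Rels) :
    CardLe (gen g [[0], [1], [2], [3], [4]]) 32 :=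
  (idx_fus h).cardLe (le_fu h) (by norm_num)

theorem idx_fusg {G : Type*} [Group G] {g : ℕ → G} (h : Pres g iv Rels) :
    IdxLe (gen g [[0], [1], [2], [3], [4]]) (gen g [[0], [1], [2], [3], [4], [5], [6]]) 2 :=
  h.idxLe _ _ CL.S64.T001.Efusg.covers (by decide +kernel)

theorem le_fusg {G : Type*} [Group G] {g : ℕ → G} (h : Pres g iv Rels) :
    CardLe (gen g [[0], [1], [2], [3], [4], [5], [6]]) 64 :=
  (idx_fusg h).cardLe (le_fus h) (by norm_num)

noncomputable def H_T : ℕ := nat_lit 0xefbd75e7edb3ce18688bf8a27dfea0bf5d7ae9f969fff79ede7838e3cf3d99ddf76dbfdc93ae9a6a2a9ce79659ef39b1c565aafd8f3cfff6d68555575d8928fbe514bd5dd65afbd4c1fdb64d382b55a6924a3b32a28cb2cfd4a492cb264ad61845156e9e186eba94704108e349dc6080f3f643838e9a6b3c66fbce3bed1071c34d76decc329a6edfa2cb75d363f2eb8b2cce7428aaebc1397df4a2b833eb2cfbe3b52aaa89271efd6dbf7df322575fbed924d2089659faae79c71c8e397dfe79d4b1f0c38e0a1cf186df77a952db461b4d8879ed3418e2f2cb6d8f1b5d34145b71ccf3f3cf26451c7c712458c4130c2bbee0c3b6d14db2bac30c4a2a514aaa59a0e9a68a210d70829e795e4669820a41229659240976e38e289a8420418204df79d74105c6044d371c05b6996586170560005554544d248001020c45141000f38d34c30b2802492081c0185144103081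
noncomputable def H_W : ℕ := nat_lit 0x41111042220426103261041610264104231041310461104111011110064600426003260041600464002640016400463001630064300423006130041300462006420063200432006220042200222004610026100161006410043100231001310061100411003110011100046000260001600064000630004300023000130006200042000320002200061000410003100011000060000400003000020000100000
noncomputable def H_I : ℕ := nat_lit 0xffedfcebbe78f76d749a9770827ae5b64c9cbb3b2a8e25af7dec686d76586a14893554501cb4cc3865083ca1440c1080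
noncomputable def H_dat : Dat := ⟨nat_lit 64, nat_lit 7, nat_lit 5, [1,0,2,4,3,6,5], tb (nat_lit 7) (nat_lit 6) (nat_lit 63) H_T,
  fld (nat_lit 20) (nat_lit 1048575) H_W, fld (nat_lit 6) (nat_lit 63) H_I⟩
theorem H_chk : H_dat.Chk Rels :=
  Dat.chk_of (a := 8) (b := 8) (by decide +kernel) rfl (by decide +kernel)
theorem H_good : H_dat.Good Rels := H_chk.good fun _ hg => le_fusg hg
/-- the group of the table -/
abbrev H : Type := RG H_dat H_good
theorem H_hom {G : Type*} [Group G] {g : ℕ → G} (hg : Pres g iv Rels) :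
    ∃ φ : H →* G, φ.range = gen g [[0], [1], [2], [3], [4], [5], [6]] ∧
      ∀ w : List ℕ, ltAll 7 w = true → φ (RG.wd H_good w) = ev g w :=
  RG.exists_hom hg fun _ hg' => le_fusg hg'

noncomputable def f : H := RG.mk' H_good (nat_lit 1)
noncomputable def u : H := RG.mk' H_good (nat_lit 3)
noncomputable def s : H := RG.mk' H_good (nat_lit 4)
noncomputable def g : H := RG.mk' H_good (nat_lit 5)
noncomputable def z : H := RG.mk' H_good (nat_lit 53)
theorem wd_f : RG.wd H_good [0] = f := by decide +kernel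
theorem wd_u : RG.wd H_good [2] = u := by decide +kernel
theorem wd_s : RG.wd H_good [3] = s := by decide +kernel
theorem wd_g : RG.wd H_good [5] = g := by decide +kernel

end CL.S64.T001

namespace CL.S64.T011.Ef
open CL.CE CL.K

noncomputable def tT0 : ℕ := nat_lit 0x7d766f6453875e42314d3c20102b1a09
noncomputable def tJ0 : ℕ := nat_lit 0x91514140
noncomputable def tD0 : ℕ := nat_lit 0x7c02d0055802201320040044000000
noncomputable def tT : Tr := (.leaf tT0)
noncomputable def tJ : Tr := (.leaf tJ0)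
noncomputable def tD : Tr := (.leaf tD0)

def rels : List (List ℕ) := [[0,1],
  [1,0],
  [0,0,0,0,0,0,0,0]]
def subs : List (List ℕ) := []
def iv (a : ℕ) : ℕ := [1,0,2].getD a 0
noncomputable def RR0 : List Rule := [.bwd [1] 0 0 0]
noncomputable def RR1 : List Rule := [.bwd [0] 1 0 0,
  .bwd [1,1,1,1,1,1,1] 2 1 1]
noncomputable def RR : List (List Rule) := [RR0, RR1]
noncomputable def rowp (j : ℕ) : ℕ := piece tT (nat_lit 3) (nat_lit 7) (nat_lit 4096) (Nat.pred (Nat.shiftLeft 1 (nat_lit 4096))) j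
noncomputable def row (u : ℕ) : ℕ := rowOf rowp (nat_lit 8) (nat_lit 255) (nat_lit 16) u
noncomputable def jrowp (j : ℕ) : ℕ := piece tJ (nat_lit 3) (nat_lit 7) (nat_lit 4096) (Nat.pred (Nat.shiftLeft 1 (nat_lit 4096))) j
noncomputable def jrow (u : ℕ) : ℕ := rowOf jrowp (nat_lit 10) (nat_lit 1023) (nat_lit 4) u
noncomputable def drowp (j : ℕ) : ℕ := piece tD (nat_lit 3) (nat_lit 7) (nat_lit 3840) (Nat.pred (Nat.shiftLeft 1 (nat_lit 3840))) j
noncomputable def drow (u : ℕ) : ℕ := rowOf drowp (nat_lit 8) (nat_lit 255) (nat_lit 15) u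
noncomputable def cert : PCert := ⟨(nat_lit 2), (nat_lit 2), (nat_lit 7), (nat_lit 8), (nat_lit 255), (nat_lit 254), (nat_lit 8), (nat_lit 7), (nat_lit 7), (nat_lit 2), (nat_lit 3), (nat_lit 2), (nat_lit 3), (nat_lit 32767), (nat_lit 0), row, jrow, drow, RR⟩
theorem params : cert.paramsOK = true := by decide +kernel
theorem rules : rulesOK rels subs iv cert.L cert.LL cert.RR = true := by decide +kernel
theorem blk0 : cert.alive (nat_lit 0) (nat_lit 1) (nat_lit 8) = 0 := by decide +kernel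
theorem up0 : cert.Upto 0 := PCert.upto_zero _
theorem up1 : cert.Upto 8 := up0.alive params blk0 (by decide)

theorem covers {G : Type*} [Group G] {g : ℕ → G} {H : Subgroup G}
    (h : Sat g H 2 iv rels subs) : Covers g 2 H 8 :=
  PCert.covers (p := cert) params rules (by decide +kernel) up1 h

end CL.S64.T011.Ef

namespace CL.S64.T011.Efu
open CL.CE CL.K

noncomputable def tT0 : ℕ := nat_lit 0x8db742
noncomputable def tJ0 : ℕ := nat_lit 0x585
noncomputable def tD0 : ℕ := nat_lit 0x101000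
noncomputable def tT : Tr := (.leaf tT0)
noncomputable def tJ : Tr := (.leaf tJ0)
noncomputable def tD : Tr := (.leaf tD0)

def rels : List (List ℕ) := [[0,1],
  [1,0],
  [2,2],
  [0,0,0,0,0,0,0,0],
  [2,0,2,0,0,0]]
def subs : List (List ℕ) := [[0],
  [1]]
def iv (a : ℕ) : ℕ := [1,0,2,3].getD a 0
noncomputable def RR0 : List Rule := [.sub [] [] 0 0,
  .bwd [2,0,0,0,2] 4 1 0]
noncomputable def RR1 : List Rule := [.bwd [0] 1 0 0]
noncomputable def RR2 : List Rule := [.bwd [2] 2 0 0]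
noncomputable def RR : List (List Rule) := [RR0, RR1, RR2]
noncomputable def rowp (j : ℕ) : ℕ := piece tT (nat_lit 3) (nat_lit 7) (nat_lit 3072) (Nat.pred (Nat.shiftLeft 1 (nat_lit 3072))) j
noncomputable def row (u : ℕ) : ℕ := rowOf rowp (nat_lit 8) (nat_lit 255) (nat_lit 12) u
noncomputable def jrowp (j : ℕ) : ℕ := piece tJ (nat_lit 3) (nat_lit 7) (nat_lit 3072) (Nat.pred (Nat.shiftLeft 1 (nat_lit 3072))) j
noncomputable def jrow (u : ℕ) : ℕ := rowOf jrowp (nat_lit 9) (nat_lit 511) (nat_lit 6) u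
noncomputable def drowp (j : ℕ) : ℕ := piece tD (nat_lit 3) (nat_lit 7) (nat_lit 2816) (Nat.pred (Nat.shiftLeft 1 (nat_lit 2816))) j
noncomputable def drow (u : ℕ) : ℕ := rowOf drowp (nat_lit 8) (nat_lit 255) (nat_lit 11) u
noncomputable def cert : PCert := ⟨(nat_lit 3), (nat_lit 3), (nat_lit 1), (nat_lit 4), (nat_lit 15), (nat_lit 14), (nat_lit 2), (nat_lit 1), (nat_lit 1), (nat_lit 2), (nat_lit 3), (nat_lit 2), (nat_lit 3), (nat_lit 2047), (nat_lit 0), row, jrow, drow, RR⟩
theorem params : cert.paramsOK = true := by decide +kernel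
theorem rules : rulesOK rels subs iv cert.L cert.LL cert.RR = true := by decide +kernel
theorem blk0 : cert.alive (nat_lit 0) (nat_lit 1) (nat_lit 2) = 0 := by decide +kernel
theorem up0 : cert.Upto 0 := PCert.upto_zero _
theorem up1 : cert.Upto 2 := up0.alive params blk0 (by decide)

theorem covers {G : Type*} [Group G] {g : ℕ → G} {H : Subgroup G}
    (h : Sat g H 3 iv rels subs) : Covers g 3 H 2 :=
  PCert.covers (p := cert) params rules (by decide +kernel) up1 h

end CL.S64.T011.Efu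

namespace CL.S64.T011.Efus
open CL.CE CL.K

noncomputable def tT0 : ℕ := nat_lit 0x14cace2f49882
noncomputable def tJ0 : ℕ := nat_lit 0x59915
noncomputable def tD0 : ℕ := nat_lit 0x101800
noncomputable def tT : Tr := (.leaf tT0)
noncomputable def tJ : Tr := (.leaf tJ0)
noncomputable def tD : Tr := (.leaf tD0)

def rels : List (List ℕ) := [[0,1],
  [1,0],
  [2,2],
  [3,4],
  [4,3],
  [0,0,0,0,0,0,0,0],
  [2,0,2,0,0,0],
  [3,0,4,0],
  [3,2,4,2],
  [3,3]]
def subs : List (List ℕ) := [[0],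
  [1],
  [2]]
def iv (a : ℕ) : ℕ := [1,0,2,4,3,5].getD a 0
noncomputable def RR0 : List Rule := [.sub [] [] 0 0,
  .bwd [4,0,3] 7 1 0]
noncomputable def RR1 : List Rule := [.bwd [0] 1 0 0]
noncomputable def RR2 : List Rule := [.sub [] [] 2 0,
  .bwd [4,2,3] 8 1 0]
noncomputable def RR3 : List Rule := [.bwd [3] 9 1 0]
noncomputable def RR4 : List Rule := [.bwd [3] 4 0 0]
noncomputable def RR : List (List Rule) := [RR0, RR1, RR2, RR3, RR4]
noncomputable def rowp (j : ℕ) : ℕ := piece tT (nat_lit 3) (nat_lit 7) (nat_lit 3200) (Nat.pred (Nat.shiftLeft 1 (nat_lit 3200))) j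
noncomputable def row (u : ℕ) : ℕ := rowOf rowp (nat_lit 7) (nat_lit 127) (nat_lit 25) u
noncomputable def jrowp (j : ℕ) : ℕ := piece tJ (nat_lit 3) (nat_lit 7) (nat_lit 2560) (Nat.pred (Nat.shiftLeft 1 (nat_lit 2560))) j
noncomputable def jrow (u : ℕ) : ℕ := rowOf jrowp (nat_lit 8) (nat_lit 255) (nat_lit 10) u
noncomputable def drowp (j : ℕ) : ℕ := piece tD (nat_lit 3) (nat_lit 7) (nat_lit 2816) (Nat.pred (Nat.shiftLeft 1 (nat_lit 2816))) j
noncomputable def drow (u : ℕ) : ℕ := rowOf drowp (nat_lit 8) (nat_lit 255) (nat_lit 11) u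
noncomputable def cert : PCert := ⟨(nat_lit 5), (nat_lit 5), (nat_lit 1), (nat_lit 5), (nat_lit 31), (nat_lit 30), (nat_lit 2), (nat_lit 1), (nat_lit 1), (nat_lit 2), (nat_lit 3), (nat_lit 2), (nat_lit 3), (nat_lit 2047), (nat_lit 0), row, jrow, drow, RR⟩
theorem params : cert.paramsOK = true := by decide +kernel
theorem rules : rulesOK rels subs iv cert.L cert.LL cert.RR = true := by decide +kernel
theorem blk0 : cert.alive (nat_lit 0) (nat_lit 1) (nat_lit 2) = 0 := by decide +kernel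
theorem up0 : cert.Upto 0 := PCert.upto_zero _
theorem up1 : cert.Upto 2 := up0.alive params blk0 (by decide)

theorem covers {G : Type*} [Group G] {g : ℕ → G} {H : Subgroup G}
    (h : Sat g H 5 iv rels subs) : Covers g 5 H 2 :=
  PCert.covers (p := cert) params rules (by decide +kernel) up1 h

end CL.S64.T011.Efus

namespace CL.S64.T011.Efusg
open CL.CE CL.K

noncomputable def tT0 : ℕ := nat_lit 0x1d6eee359e5aa41882
noncomputable def tJ0 : ℕ := nat_lit 0x5699155
noncomputable def tD0 : ℕ := nat_lit 0x102800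
noncomputable def tT : Tr := (.leaf tT0)
noncomputable def tJ : Tr := (.leaf tJ0)
noncomputable def tD : Tr := (.leaf tD0)

def rels : List (List ℕ) := [[0,1],
  [1,0],
  [2,2],
  [3,4],
  [4,3],
  [5,6],
  [6,5],
  [0,0,0,0,0,0,0,0],
  [2,0,2,0,0,0],
  [3,0,4,0],
  [3,2,4,2],
  [5,0,6,1,2],
  [5,2,6,2],
  [3,3],
  [5,5,0,0,0,0],
  [5,3,6,1,1,4,2]]
def subs : List (List ℕ) := [[0],
  [1],
  [2],
  [3],
  [4]]
def iv (a : ℕ) : ℕ := [1,0,2,4,3,6,5,7].getD a 0
noncomputable def RR0 : List Rule := [.sub [] [] 0 0,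
  .bwd [6,1,2,5] 11 1 0]
noncomputable def RR1 : List Rule := [.bwd [0] 1 0 0]
noncomputable def RR2 : List Rule := [.sub [] [] 2 0,
  .bwd [6,2,5] 12 1 0]
noncomputable def RR3 : List Rule := [.sub [] [] 3 0,
  .bwd [6,1,1,4,2,5] 15 1 0]
noncomputable def RR4 : List Rule := [.bwd [3] 4 0 0]
noncomputable def RR5 : List Rule := [.bwd [0,0,0,0,5] 14 1 0]
noncomputable def RR6 : List Rule := [.bwd [5] 6 0 0]
noncomputable def RR : List (List Rule) := [RR0, RR1, RR2, RR3, RR4, RR5, RR6]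
noncomputable def rowp (j : ℕ) : ℕ := piece tT (nat_lit 3) (nat_lit 7) (nat_lit 2240) (Nat.pred (Nat.shiftLeft 1 (nat_lit 2240))) j
noncomputable def row (u : ℕ) : ℕ := rowOf rowp (nat_lit 6) (nat_lit 63) (nat_lit 35) u
noncomputable def jrowp (j : ℕ) : ℕ := piece tJ (nat_lit 3) (nat_lit 7) (nat_lit 3584) (Nat.pred (Nat.shiftLeft 1 (nat_lit 3584))) j
noncomputable def jrow (u : ℕ) : ℕ := rowOf jrowp (nat_lit 8) (nat_lit 255) (nat_lit 14) u
noncomputable def drowp (j : ℕ) : ℕ := piece tD (nat_lit 3) (nat_lit 7) (nat_lit 2816) (Nat.pred (Nat.shiftLeft 1 (nat_lit 2816))) j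
noncomputable def drow (u : ℕ) : ℕ := rowOf drowp (nat_lit 8) (nat_lit 255) (nat_lit 11) u
noncomputable def cert : PCert := ⟨(nat_lit 7), (nat_lit 7), (nat_lit 1), (nat_lit 5), (nat_lit 31), (nat_lit 30), (nat_lit 2), (nat_lit 1), (nat_lit 1), (nat_lit 2), (nat_lit 3), (nat_lit 2), (nat_lit 3), (nat_lit 2047), (nat_lit 0), row, jrow, drow, RR⟩
theorem params : cert.paramsOK = true := by decide +kernel
theorem rules : rulesOK rels subs iv cert.L cert.LL cert.RR = true := by decide +kernel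
theorem blk0 : cert.alive (nat_lit 0) (nat_lit 1) (nat_lit 2) = 0 := by decide +kernel
theorem up0 : cert.Upto 0 := PCert.upto_zero _
theorem up1 : cert.Upto 2 := up0.alive params blk0 (by decide)

theorem covers {G : Type*} [Group G] {g : ℕ → G} {H : Subgroup G}
    (h : Sat g H 7 iv rels subs) : Covers g 7 H 2 :=
  PCert.covers (p := cert) params rules (by decide +kernel) up1 h

end CL.S64.T011.Efusg

namespace CL.S64.T011
open CL.CE CL.K CL.Reg

def iv (a : ℕ) : ℕ := [1,0,2,4,3,6,5].getD a a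
def Rels : List (List ℕ) := [[0,1], [1,0], [2,2], [3,4], [4,3], [5,6], [6,5], [0,0,0,0,0,0,0,0], [2,0,2,0,0,0], [3,0,4,0], [3,2,4,2], [5,0,6,1,2], [5,2,6,2], [3,3], [5,5,0,0,0,0], [5,3,6,1,1,4,2]]

theorem idx_f {G : Type*} [Group G] {g : ℕ → G} (h : Pres g iv Rels) :
    IdxLe (gen g []) (gen g [[0], [1]]) 8 :=
  h.idxLe _ _ CL.S64.T011.Ef.covers (by decide +kernel)

theorem le_f {G : Type*} [Group G] {g : ℕ → G} (h : Pres g iv Rels) :
    CardLe (gen g [[0], [1]]) 8 :=
  (idx_f h).cardLe (cardLe_nil g) (by norm_num)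

theorem idx_fu {G : Type*} [Group G] {g : ℕ → G} (h : Pres g iv Rels) :
    IdxLe (gen g [[0], [1]]) (gen g [[0], [1], [2]]) 2 :=
  h.idxLe _ _ CL.S64.T011.Efu.covers (by decide +kernel)

theorem le_fu {G : Type*} [Group G] {g : ℕ → G} (h : Pres g iv Rels) :
    CardLe (gen g [[0], [1], [2]]) 16 :=
  (idx_fu h).cardLe (le_f h) (by norm_num)

theorem idx_fus {G : Type*} [Group G] {g : ℕ → G} (h : Pres g iv Rels) :
    IdxLe (gen g [[0], [1], [2]]) (gen g [[0], [1], [2], [3], [4]]) 2 :=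
  h.idxLe _ _ CL.S64.T011.Efus.covers (by decide +kernel)

theorem le_fus {G : Type*} [Group G] {g : ℕ → G} (h : Pres g iv Rels) :
    CardLe (gen g [[0], [1], [2], [3], [4]]) 32 :=
  (idx_fus h).cardLe (le_fu h) (by norm_num)

theorem idx_fusg {G : Type*} [Group G] {g : ℕ → G} (h : Pres g iv Rels) :
    IdxLe (gen g [[0], [1], [2], [3], [4]]) (gen g [[0], [1], [2], [3], [4], [5], [6]]) 2 :=
  h.idxLe _ _ CL.S64.T011.Efusg.covers (by decide +kernel)

theorem le_fusg {G : Type*} [Group G] {g : ℕ → G} (h : Pres g iv Rels) :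
    CardLe (gen g [[0], [1], [2], [3], [4], [5], [6]]) 64 :=
  (idx_fusg h).cardLe (le_fus h) (by norm_num)

noncomputable def H_T : ℕ := nat_lit 0x9e8aebd2eeb6de597a9afc317dfd7a85e6a0821bf469e924bb59965db6feffdba15557aace1b9451ab72f938a25e8c13fa38d69f1b6a492f53ef2cd147ff13d26410a395a6d0f3e7e17f4e618ab668ef5c72dddeaad34d3bef38e4c33b3bfbf52cbc16e248165a32d028bfff45b335bca2b15f98245d788a3ff2596736b727f75dc9edb3c88209efe515fbe6cd229b3becc212307db6b18747337de9719e781c7f3d26ca7cf0744d3d0f7d4876fbf061b9c273529e73e3191230c0b1a2146eba95fafcec5178c6848da28422148471c4a163e84a69df2a84eacb36ced943e79190283978e053cbdf60c3134d5d675d5f90361cd34ac381f0b3cd9b1509fcb2769531c020af12e65dbef0a09628eeba4ac2ac1b6d714b01aeaa98569a270419a111c6269819648e28618017db01e79575c01b69a51961758001324e5544d30124503ce38d3002ca2492001c6144103081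
noncomputable def H_W : ℕ := nat_lit 0x6641423141110746064606640473046307430643042304130472046207420642043204220471017106610461016107410641043102310131071106110411031101110047002700170066004600260016007400640073006300430023001300720062004200320022007100610041003100110007000600040003000200010000
noncomputable def H_I : ℕ := nat_lit 0xffef7cefadb7e39be6b6aa27d6ece97f2b31c349608a3864ad628f6d72d069e5154c835870e44765d2523051840c1080
noncomputable def H_dat : Dat := ⟨nat_lit 64, nat_lit 7, nat_lit 4, [1,0,2,4,3,6,5], tb (nat_lit 7) (nat_lit 6) (nat_lit 63) H_T,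
  fld (nat_lit 16) (nat_lit 65535) H_W, fld (nat_lit 6) (nat_lit 63) H_I⟩
theorem H_chk : H_dat.Chk Rels :=
  Dat.chk_of (a := 8) (b := 8) (by decide +kernel) rfl (by decide +kernel)
theorem H_good : H_dat.Good Rels := H_chk.good fun _ hg => le_fusg hg
/-- the group of the table -/
abbrev H : Type := RG H_dat H_good
theorem H_hom {G : Type*} [Group G] {g : ℕ → G} (hg : Pres g iv Rels) :
    ∃ φ : H →* G, φ.range = gen g [[0], [1], [2], [3], [4], [5], [6]] ∧
      ∀ w : List ℕ, ltAll 7 w = true → φ (RG.wd H_good w) = ev g w :=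
  RG.exists_hom hg fun _ hg' => le_fusg hg'

noncomputable def f : H := RG.mk' H_good (nat_lit 1)
noncomputable def u : H := RG.mk' H_good (nat_lit 3)
noncomputable def s : H := RG.mk' H_good (nat_lit 4)
noncomputable def g : H := RG.mk' H_good (nat_lit 5)
noncomputable def z : H := RG.mk' H_good (nat_lit 27)
theorem wd_f : RG.wd H_good [0] = f := by decide +kernel
theorem wd_u : RG.wd H_good [2] = u := by decide +kernel
theorem wd_s : RG.wd H_good [3] = s := by decide +kernel
theorem wd_g : RG.wd H_good [5] = g := by decide +kernel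

end CL.S64.T011

namespace CL.S64.T101.Ef
open CL.CE CL.K

noncomputable def tT0 : ℕ := nat_lit 0x7d766f6453875e42314d3c20102b1a09
noncomputable def tJ0 : ℕ := nat_lit 0x91514140
noncomputable def tD0 : ℕ := nat_lit 0x7c02d0055802201320040044000000
noncomputable def tT : Tr := (.leaf tT0)
noncomputable def tJ : Tr := (.leaf tJ0)
noncomputable def tD : Tr := (.leaf tD0)

def rels : List (List ℕ) := [[0,1],
  [1,0],
  [0,0,0,0,0,0,0,0]]
def subs : List (List ℕ) := []
def iv (a : ℕ) : ℕ := [1,0,2].getD a 0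
noncomputable def RR0 : List Rule := [.bwd [1] 0 0 0]
noncomputable def RR1 : List Rule := [.bwd [0] 1 0 0,
  .bwd [1,1,1,1,1,1,1] 2 1 1]
noncomputable def RR : List (List Rule) := [RR0, RR1]
noncomputable def rowp (j : ℕ) : ℕ := piece tT (nat_lit 3) (nat_lit 7) (nat_lit 4096) (Nat.pred (Nat.shiftLeft 1 (nat_lit 4096))) j
noncomputable def row (u : ℕ) : ℕ := rowOf rowp (nat_lit 8) (nat_lit 255) (nat_lit 16) u
noncomputable def jrowp (j : ℕ) : ℕ := piece tJ (nat_lit 3) (nat_lit 7) (nat_lit 4096) (Nat.pred (Nat.shiftLeft 1 (nat_lit 4096))) j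
noncomputable def jrow (u : ℕ) : ℕ := rowOf jrowp (nat_lit 10) (nat_lit 1023) (nat_lit 4) u
noncomputable def drowp (j : ℕ) : ℕ := piece tD (nat_lit 3) (nat_lit 7) (nat_lit 3840) (Nat.pred (Nat.shiftLeft 1 (nat_lit 3840))) j
noncomputable def drow (u : ℕ) : ℕ := rowOf drowp (nat_lit 8) (nat_lit 255) (nat_lit 15) u
noncomputable def cert : PCert := ⟨(nat_lit 2), (nat_lit 2), (nat_lit 7), (nat_lit 8), (nat_lit 255), (nat_lit 254), (nat_lit 8), (nat_lit 7), (nat_lit 7), (nat_lit 2), (nat_lit 3), (nat_lit 2), (nat_lit 3), (nat_lit 32767), (nat_lit 0), row, jrow, drow, RR⟩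
theorem params : cert.paramsOK = true := by decide +kernel
theorem rules : rulesOK rels subs iv cert.L cert.LL cert.RR = true := by decide +kernel
theorem blk0 : cert.alive (nat_lit 0) (nat_lit 1) (nat_lit 8) = 0 := by decide +kernel
theorem up0 : cert.Upto 0 := PCert.upto_zero _
theorem up1 : cert.Upto 8 := up0.alive params blk0 (by decide)

theorem covers {G : Type*} [Group G] {g : ℕ → G} {H : Subgroup G}
    (h : Sat g H 2 iv rels subs) : Covers g 2 H 8 :=
  PCert.covers (p := cert) params rules (by decide +kernel) up1 h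

end CL.S64.T101.Ef

namespace CL.S64.T101.Efu
open CL.CE CL.K

noncomputable def tT0 : ℕ := nat_lit 0x8db742
noncomputable def tJ0 : ℕ := nat_lit 0x585
noncomputable def tD0 : ℕ := nat_lit 0x101000
noncomputable def tT : Tr := (.leaf tT0)
noncomputable def tJ : Tr := (.leaf tJ0)
noncomputable def tD : Tr := (.leaf tD0)

def rels : List (List ℕ) := [[0,1],
  [1,0],
  [2,2],
  [0,0,0,0,0,0,0,0],
  [2,0,2,0,0,0]]
def subs : List (List ℕ) := [[0],
  [1]]
def iv (a : ℕ) : ℕ := [1,0,2,3].getD a 0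
noncomputable def RR0 : List Rule := [.sub [] [] 0 0,
  .bwd [2,0,0,0,2] 4 1 0]
noncomputable def RR1 : List Rule := [.bwd [0] 1 0 0]
noncomputable def RR2 : List Rule := [.bwd [2] 2 0 0]
noncomputable def RR : List (List Rule) := [RR0, RR1, RR2]
noncomputable def rowp (j : ℕ) : ℕ := piece tT (nat_lit 3) (nat_lit 7) (nat_lit 3072) (Nat.pred (Nat.shiftLeft 1 (nat_lit 3072))) j
noncomputable def row (u : ℕ) : ℕ := rowOf rowp (nat_lit 8) (nat_lit 255) (nat_lit 12) u
noncomputable def jrowp (j : ℕ) : ℕ := piece tJ (nat_lit 3) (nat_lit 7) (nat_lit 3072) (Nat.pred (Nat.shiftLeft 1 (nat_lit 3072))) j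
noncomputable def jrow (u : ℕ) : ℕ := rowOf jrowp (nat_lit 9) (nat_lit 511) (nat_lit 6) u
noncomputable def drowp (j : ℕ) : ℕ := piece tD (nat_lit 3) (nat_lit 7) (nat_lit 2816) (Nat.pred (Nat.shiftLeft 1 (nat_lit 2816))) j
noncomputable def drow (u : ℕ) : ℕ := rowOf drowp (nat_lit 8) (nat_lit 255) (nat_lit 11) u
noncomputable def cert : PCert := ⟨(nat_lit 3), (nat_lit 3), (nat_lit 1), (nat_lit 4), (nat_lit 15), (nat_lit 14), (nat_lit 2), (nat_lit 1), (nat_lit 1), (nat_lit 2), (nat_lit 3), (nat_lit 2), (nat_lit 3), (nat_lit 2047), (nat_lit 0), row, jrow, drow, RR⟩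
theorem params : cert.paramsOK = true := by decide +kernel
theorem rules : rulesOK rels subs iv cert.L cert.LL cert.RR = true := by decide +kernel
theorem blk0 : cert.alive (nat_lit 0) (nat_lit 1) (nat_lit 2) = 0 := by decide +kernel
theorem up0 : cert.Upto 0 := PCert.upto_zero _
theorem up1 : cert.Upto 2 := up0.alive params blk0 (by decide)

theorem covers {G : Type*} [Group G] {g : ℕ → G} {H : Subgroup G}
    (h : Sat g H 3 iv rels subs) : Covers g 3 H 2 :=
  PCert.covers (p := cert) params rules (by decide +kernel) up1 h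

end CL.S64.T101.Efu

namespace CL.S64.T101.Efus
open CL.CE CL.K

noncomputable def tT0 : ℕ := nat_lit 0x1528bdb549882
noncomputable def tJ0 : ℕ := nat_lit 0x59915
noncomputable def tD0 : ℕ := nat_lit 0x101800
noncomputable def tT : Tr := (.leaf tT0)
noncomputable def tJ : Tr := (.leaf tJ0)
noncomputable def tD : Tr := (.leaf tD0)

def rels : List (List ℕ) := [[0,1],
  [1,0],
  [2,2],
  [3,4],
  [4,3],
  [0,0,0,0,0,0,0,0],
  [2,0,2,0,0,0],
  [3,0,4,0],
  [3,2,4,2],
  [3,3,0,0,0,0]]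
def subs : List (List ℕ) := [[0],
  [1],
  [2]]
def iv (a : ℕ) : ℕ := [1,0,2,4,3,5].getD a 0
noncomputable def RR0 : List Rule := [.sub [] [] 0 0,
  .bwd [4,0,3] 7 1 0]
noncomputable def RR1 : List Rule := [.bwd [0] 1 0 0]
noncomputable def RR2 : List Rule := [.sub [] [] 2 0,
  .bwd [4,2,3] 8 1 0]
noncomputable def RR3 : List Rule := [.bwd [0,0,0,0,3] 9 1 0]
noncomputable def RR4 : List Rule := [.bwd [3] 4 0 0]
noncomputable def RR : List (List Rule) := [RR0, RR1, RR2, RR3, RR4]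
noncomputable def rowp (j : ℕ) : ℕ := piece tT (nat_lit 3) (nat_lit 7) (nat_lit 3200) (Nat.pred (Nat.shiftLeft 1 (nat_lit 3200))) j
noncomputable def row (u : ℕ) : ℕ := rowOf rowp (nat_lit 7) (nat_lit 127) (nat_lit 25) u
noncomputable def jrowp (j : ℕ) : ℕ := piece tJ (nat_lit 3) (nat_lit 7) (nat_lit 2560) (Nat.pred (Nat.shiftLeft 1 (nat_lit 2560))) j
noncomputable def jrow (u : ℕ) : ℕ := rowOf jrowp (nat_lit 8) (nat_lit 255) (nat_lit 10) u
noncomputable def drowp (j : ℕ) : ℕ := piece tD (nat_lit 3) (nat_lit 7) (nat_lit 2816) (Nat.pred (Nat.shiftLeft 1 (nat_lit 2816))) j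
noncomputable def drow (u : ℕ) : ℕ := rowOf drowp (nat_lit 8) (nat_lit 255) (nat_lit 11) u
noncomputable def cert : PCert := ⟨(nat_lit 5), (nat_lit 5), (nat_lit 1), (nat_lit 5), (nat_lit 31), (nat_lit 30), (nat_lit 2), (nat_lit 1), (nat_lit 1), (nat_lit 2), (nat_lit 3), (nat_lit 2), (nat_lit 3), (nat_lit 2047), (nat_lit 0), row, jrow, drow, RR⟩
theorem params : cert.paramsOK = true := by decide +kernel
theorem rules : rulesOK rels subs iv cert.L cert.LL cert.RR = true := by decide +kernel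
theorem blk0 : cert.alive (nat_lit 0) (nat_lit 1) (nat_lit 2) = 0 := by decide +kernel
theorem up0 : cert.Upto 0 := PCert.upto_zero _
theorem up1 : cert.Upto 2 := up0.alive params blk0 (by decide)

theorem covers {G : Type*} [Group G] {g : ℕ → G} {H : Subgroup G}
    (h : Sat g H 5 iv rels subs) : Covers g 5 H 2 :=
  PCert.covers (p := cert) params rules (by decide +kernel) up1 h

end CL.S64.T101.Efus

namespace CL.S64.T101.Efusg
open CL.CE CL.K

noncomputable def tT0 : ℕ := nat_lit 0x1d0eeeb9bcdaa41882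
noncomputable def tJ0 : ℕ := nat_lit 0x5699155
noncomputable def tD0 : ℕ := nat_lit 0x102800
noncomputable def tT : Tr := (.leaf tT0)
noncomputable def tJ : Tr := (.leaf tJ0)
noncomputable def tD : Tr := (.leaf tD0)

def rels : List (List ℕ) := [[0,1],
  [1,0],
  [2,2],
  [3,4],
  [4,3],
  [5,6],
  [6,5],
  [0,0,0,0,0,0,0,0],
  [2,0,2,0,0,0],
  [3,0,4,0],
  [3,2,4,2],
  [5,0,6,1,2],
  [5,2,6,2],
  [3,3,0,0,0,0],
  [5,5],
  [5,3,6,1,1,4,2]]
def subs : List (List ℕ) := [[0],
  [1],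
  [2],
  [3],
  [4]]
def iv (a : ℕ) : ℕ := [1,0,2,4,3,6,5,7].getD a 0
noncomputable def RR0 : List Rule := [.sub [] [] 0 0,
  .bwd [6,1,2,5] 11 1 0]
noncomputable def RR1 : List Rule := [.bwd [0] 1 0 0]
noncomputable def RR2 : List Rule := [.sub [] [] 2 0,
  .bwd [6,2,5] 12 1 0]
noncomputable def RR3 : List Rule := [.sub [] [] 3 0,
  .bwd [6,1,1,4,2,5] 15 1 0]
noncomputable def RR4 : List Rule := [.bwd [3] 4 0 0]
noncomputable def RR5 : List Rule := [.bwd [5] 14 1 0]
noncomputable def RR6 : List Rule := [.bwd [5] 6 0 0]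
noncomputable def RR : List (List Rule) := [RR0, RR1, RR2, RR3, RR4, RR5, RR6]
noncomputable def rowp (j : ℕ) : ℕ := piece tT (nat_lit 3) (nat_lit 7) (nat_lit 2240) (Nat.pred (Nat.shiftLeft 1 (nat_lit 2240))) j
noncomputable def row (u : ℕ) : ℕ := rowOf rowp (nat_lit 6) (nat_lit 63) (nat_lit 35) u
noncomputable def jrowp (j : ℕ) : ℕ := piece tJ (nat_lit 3) (nat_lit 7) (nat_lit 3584) (Nat.pred (Nat.shiftLeft 1 (nat_lit 3584))) j
noncomputable def jrow (u : ℕ) : ℕ := rowOf jrowp (nat_lit 8) (nat_lit 255) (nat_lit 14) u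
noncomputable def drowp (j : ℕ) : ℕ := piece tD (nat_lit 3) (nat_lit 7) (nat_lit 2816) (Nat.pred (Nat.shiftLeft 1 (nat_lit 2816))) j
noncomputable def drow (u : ℕ) : ℕ := rowOf drowp (nat_lit 8) (nat_lit 255) (nat_lit 11) u
noncomputable def cert : PCert := ⟨(nat_lit 7), (nat_lit 7), (nat_lit 1), (nat_lit 5), (nat_lit 31), (nat_lit 30), (nat_lit 2), (nat_lit 1), (nat_lit 1), (nat_lit 2), (nat_lit 3), (nat_lit 2), (nat_lit 3), (nat_lit 2047), (nat_lit 0), row, jrow, drow, RR⟩
theorem params : cert.paramsOK = true := by decide +kernel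
theorem rules : rulesOK rels subs iv cert.L cert.LL cert.RR = true := by decide +kernel
theorem blk0 : cert.alive (nat_lit 0) (nat_lit 1) (nat_lit 2) = 0 := by decide +kernel
theorem up0 : cert.Upto 0 := PCert.upto_zero _
theorem up1 : cert.Upto 2 := up0.alive params blk0 (by decide)

theorem covers {G : Type*} [Group G] {g : ℕ → G} {H : Subgroup G}
    (h : Sat g H 7 iv rels subs) : Covers g 7 H 2 :=
  PCert.covers (p := cert) params rules (by decide +kernel) up1 h

end CL.S64.T101.Efusg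

namespace CL.S64.T101
open CL.CE CL.K CL.Reg

def iv (a : ℕ) : ℕ := [1,0,2,4,3,6,5].getD a a
def Rels : List (List ℕ) := [[0,1], [1,0], [2,2], [3,4], [4,3], [5,6], [6,5], [0,0,0,0,0,0,0,0], [2,0,2,0,0,0], [3,0,4,0], [3,2,4,2], [5,0,6,1,2], [5,2,6,2], [3,3,0,0,0,0], [5,5], [5,3,6,1,1,4,2]]

theorem idx_f {G : Type*} [Group G] {g : ℕ → G} (h : Pres g iv Rels) :
    IdxLe (gen g []) (gen g [[0], [1]]) 8 :=
  h.idxLe _ _ CL.S64.T101.Ef.covers (by decide +kernel)

theorem le_f {G : Type*} [Group G] {g : ℕ → G} (h : Pres g iv Rels) :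
    CardLe (gen g [[0], [1]]) 8 :=
  (idx_f h).cardLe (cardLe_nil g) (by norm_num)

theorem idx_fu {G : Type*} [Group G] {g : ℕ → G} (h : Pres g iv Rels) :
    IdxLe (gen g [[0], [1]]) (gen g [[0], [1], [2]]) 2 :=
  h.idxLe _ _ CL.S64.T101.Efu.covers (by decide +kernel)

theorem le_fu {G : Type*} [Group G] {g : ℕ → G} (h : Pres g iv Rels) :
    CardLe (gen g [[0], [1], [2]]) 16 :=
  (idx_fu h).cardLe (le_f h) (by norm_num)

theorem idx_fus {G : Type*} [Group G] {g : ℕ → G} (h : Pres g iv Rels) :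
    IdxLe (gen g [[0], [1], [2]]) (gen g [[0], [1], [2], [3], [4]]) 2 :=
  h.idxLe _ _ CL.S64.T101.Efus.covers (by decide +kernel)

theorem le_fus {G : Type*} [Group G] {g : ℕ → G} (h : Pres g iv Rels) :
    CardLe (gen g [[0], [1], [2], [3], [4]]) 32 :=
  (idx_fus h).cardLe (le_fu h) (by norm_num)

theorem idx_fusg {G : Type*} [Group G] {g : ℕ → G} (h : Pres g iv Rels) :
    IdxLe (gen g [[0], [1], [2], [3], [4]]) (gen g [[0], [1], [2], [3], [4], [5], [6]]) 2 :=
  h.idxLe _ _ CL.S64.T101.Efusg.covers (by decide +kernel)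

theorem le_fusg {G : Type*} [Group G] {g : ℕ → G} (h : Pres g iv Rels) :
    CardLe (gen g [[0], [1], [2], [3], [4], [5], [6]]) 64 :=
  (idx_fusg h).cardLe (le_fus h) (by norm_num)

noncomputable def H_T : ℕ := nat_lit 0x71c89e82f91b6de89fba575dcf46bcaa28985ede3d5966dcab0d6082a55caf47df56a6ecce69abb3557c51486d628c534ed8579f2451cb1e3b86597d428e9792443d9f960f3d9d6bd9b38ed59b3770d3689d0b7baeb48d3d3fecb0d48e53e30cdf6f19c2ebb82f15f9bef2f8c98ea38f9ebbf4b79e5d884b40a29ac346f7249c1acdcdb8e0929158cd344482be4f3cc8449fd4aaa4d458d23cf3efcc2121c7db7a756bae8c1ff38ae791ccf8f269a7ff8744df7d38f4875bfffb1bac67fbe1bbe72a124a7a3d846208c722c6b45169f37ceb104f29db4b3bec41637660c3eb9190e37de30c592edb60e3125bda6aebdd883d759259837820b4cf0a55cb2742bc57f1c4276e120c30bee09e8edb5f822982041b2b66aa68a260658059e706691f1196659018e286181f78174001c6d569961858050a3d75c059324e55551301245040f38d3002cb2892001c6185103081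
noncomputable def H_W : ℕ := nat_lit 0x656646326564644563463163653643613562462652642632532432622561461261161651641441531431231131611511411311111056046026016065064044063053043023013062052042032022061051041031011006005004003002001000
noncomputable def H_I : ℕ := nat_lit 0xfbfd7cef6df0e7af6cae89f8beeb74ceaa72c5d9648de85f82299760b41b71655350835938f4476892923061050c1080
noncomputable def H_dat : Dat := ⟨nat_lit 64, nat_lit 7, nat_lit 3, [1,0,2,4,3,6,5], tb (nat_lit 7) (nat_lit 6) (nat_lit 63) H_T,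
  fld (nat_lit 12) (nat_lit 4095) H_W, fld (nat_lit 6) (nat_lit 63) H_I⟩
theorem H_chk : H_dat.Chk Rels :=
  Dat.chk_of (a := 8) (b := 8) (by decide +kernel) rfl (by decide +kernel)
theorem H_good : H_dat.Good Rels := H_chk.good fun _ hg => le_fusg hg
/-- the group of the table -/
abbrev H : Type := RG H_dat H_good
theorem H_hom {G : Type*} [Group G] {g : ℕ → G} (hg : Pres g iv Rels) :
    ∃ φ : H →* G, φ.range = gen g [[0], [1], [2], [3], [4], [5], [6]] ∧
      ∀ w : List ℕ, ltAll 7 w = true → φ (RG.wd H_good w) = ev g w :=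
  RG.exists_hom hg fun _ hg' => le_fusg hg'

noncomputable def f : H := RG.mk' H_good (nat_lit 1)
noncomputable def u : H := RG.mk' H_good (nat_lit 3)
noncomputable def s : H := RG.mk' H_good (nat_lit 4)
noncomputable def g : H := RG.mk' H_good (nat_lit 6)
noncomputable def z : H := RG.mk' H_good (nat_lit 22)
theorem wd_f : RG.wd H_good [0] = f := by decide +kernel
theorem wd_u : RG.wd H_good [2] = u := by decide +kernel
theorem wd_s : RG.wd H_good [3] = s := by decide +kernel
theorem wd_g : RG.wd H_good [5] = g := by decide +kernel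

end CL.S64.T101

namespace CL.S64.T111.Ef
open CL.CE CL.K

noncomputable def tT0 : ℕ := nat_lit 0x7d766f6453875e42314d3c20102b1a09
noncomputable def tJ0 : ℕ := nat_lit 0x91514140
noncomputable def tD0 : ℕ := nat_lit 0x7c02d0055802201320040044000000
noncomputable def tT : Tr := (.leaf tT0)
noncomputable def tJ : Tr := (.leaf tJ0)
noncomputable def tD : Tr := (.leaf tD0)

def rels : List (List ℕ) := [[0,1],
  [1,0],
  [0,0,0,0,0,0,0,0]]
def subs : List (List ℕ) := []
def iv (a : ℕ) : ℕ := [1,0,2].getD a 0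
noncomputable def RR0 : List Rule := [.bwd [1] 0 0 0]
noncomputable def RR1 : List Rule := [.bwd [0] 1 0 0,
  .bwd [1,1,1,1,1,1,1] 2 1 1]
noncomputable def RR : List (List Rule) := [RR0, RR1]
noncomputable def rowp (j : ℕ) : ℕ := piece tT (nat_lit 3) (nat_lit 7) (nat_lit 4096) (Nat.pred (Nat.shiftLeft 1 (nat_lit 4096))) j
noncomputable def row (u : ℕ) : ℕ := rowOf rowp (nat_lit 8) (nat_lit 255) (nat_lit 16) u
noncomputable def jrowp (j : ℕ) : ℕ := piece tJ (nat_lit 3) (nat_lit 7) (nat_lit 4096) (Nat.pred (Nat.shiftLeft 1 (nat_lit 4096))) j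
noncomputable def jrow (u : ℕ) : ℕ := rowOf jrowp (nat_lit 10) (nat_lit 1023) (nat_lit 4) u
noncomputable def drowp (j : ℕ) : ℕ := piece tD (nat_lit 3) (nat_lit 7) (nat_lit 3840) (Nat.pred (Nat.shiftLeft 1 (nat_lit 3840))) j
noncomputable def drow (u : ℕ) : ℕ := rowOf drowp (nat_lit 8) (nat_lit 255) (nat_lit 15) u
noncomputable def cert : PCert := ⟨(nat_lit 2), (nat_lit 2), (nat_lit 7), (nat_lit 8), (nat_lit 255), (nat_lit 254), (nat_lit 8), (nat_lit 7), (nat_lit 7), (nat_lit 2), (nat_lit 3), (nat_lit 2), (nat_lit 3), (nat_lit 32767), (nat_lit 0), row, jrow, drow, RR⟩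
theorem params : cert.paramsOK = true := by decide +kernel
theorem rules : rulesOK rels subs iv cert.L cert.LL cert.RR = true := by decide +kernel
theorem blk0 : cert.alive (nat_lit 0) (nat_lit 1) (nat_lit 8) = 0 := by decide +kernel
theorem up0 : cert.Upto 0 := PCert.upto_zero _
theorem up1 : cert.Upto 8 := up0.alive params blk0 (by decide)

theorem covers {G : Type*} [Group G] {g : ℕ → G} {H : Subgroup G}
    (h : Sat g H 2 iv rels subs) : Covers g 2 H 8 :=
  PCert.covers (p := cert) params rules (by decide +kernel) up1 h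

end CL.S64.T111.Ef

namespace CL.S64.T111.Efu
open CL.CE CL.K

noncomputable def tT0 : ℕ := nat_lit 0x8db742
noncomputable def tJ0 : ℕ := nat_lit 0x585
noncomputable def tD0 : ℕ := nat_lit 0x101000
noncomputable def tT : Tr := (.leaf tT0)
noncomputable def tJ : Tr := (.leaf tJ0)
noncomputable def tD : Tr := (.leaf tD0)

def rels : List (List ℕ) := [[0,1],
  [1,0],
  [2,2],
  [0,0,0,0,0,0,0,0],
  [2,0,2,0,0,0]]
def subs : List (List ℕ) := [[0],
  [1]]
def iv (a : ℕ) : ℕ := [1,0,2,3].getD a 0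
noncomputable def RR0 : List Rule := [.sub [] [] 0 0,
  .bwd [2,0,0,0,2] 4 1 0]
noncomputable def RR1 : List Rule := [.bwd [0] 1 0 0]
noncomputable def RR2 : List Rule := [.bwd [2] 2 0 0]
noncomputable def RR : List (List Rule) := [RR0, RR1, RR2]
noncomputable def rowp (j : ℕ) : ℕ := piece tT (nat_lit 3) (nat_lit 7) (nat_lit 3072) (Nat.pred (Nat.shiftLeft 1 (nat_lit 3072))) j
noncomputable def row (u : ℕ) : ℕ := rowOf rowp (nat_lit 8) (nat_lit 255) (nat_lit 12) u
noncomputable def jrowp (j : ℕ) : ℕ := piece tJ (nat_lit 3) (nat_lit 7) (nat_lit 3072) (Nat.pred (Nat.shiftLeft 1 (nat_lit 3072))) j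
noncomputable def jrow (u : ℕ) : ℕ := rowOf jrowp (nat_lit 9) (nat_lit 511) (nat_lit 6) u
noncomputable def drowp (j : ℕ) : ℕ := piece tD (nat_lit 3) (nat_lit 7) (nat_lit 2816) (Nat.pred (Nat.shiftLeft 1 (nat_lit 2816))) j
noncomputable def drow (u : ℕ) : ℕ := rowOf drowp (nat_lit 8) (nat_lit 255) (nat_lit 11) u
noncomputable def cert : PCert := ⟨(nat_lit 3), (nat_lit 3), (nat_lit 1), (nat_lit 4), (nat_lit 15), (nat_lit 14), (nat_lit 2), (nat_lit 1), (nat_lit 1), (nat_lit 2), (nat_lit 3), (nat_lit 2), (nat_lit 3), (nat_lit 2047), (nat_lit 0), row, jrow, drow, RR⟩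
theorem params : cert.paramsOK = true := by decide +kernel
theorem rules : rulesOK rels subs iv cert.L cert.LL cert.RR = true := by decide +kernel
theorem blk0 : cert.alive (nat_lit 0) (nat_lit 1) (nat_lit 2) = 0 := by decide +kernel
theorem up0 : cert.Upto 0 := PCert.upto_zero _
theorem up1 : cert.Upto 2 := up0.alive params blk0 (by decide)

theorem covers {G : Type*} [Group G] {g : ℕ → G} {H : Subgroup G}
    (h : Sat g H 3 iv rels subs) : Covers g 3 H 2 :=
  PCert.covers (p := cert) params rules (by decide +kernel) up1 h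

end CL.S64.T111.Efu

namespace CL.S64.T111.Efus
open CL.CE CL.K

noncomputable def tT0 : ℕ := nat_lit 0x1528bdb549882
noncomputable def tJ0 : ℕ := nat_lit 0x59915
noncomputable def tD0 : ℕ := nat_lit 0x101800
noncomputable def tT : Tr := (.leaf tT0)
noncomputable def tJ : Tr := (.leaf tJ0)
noncomputable def tD : Tr := (.leaf tD0)

def rels : List (List ℕ) := [[0,1],
  [1,0],
  [2,2],
  [3,4],
  [4,3],
  [0,0,0,0,0,0,0,0],
  [2,0,2,0,0,0],
  [3,0,4,0],
  [3,2,4,2],
  [3,3,0,0,0,0]]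
def subs : List (List ℕ) := [[0],
  [1],
  [2]]
def iv (a : ℕ) : ℕ := [1,0,2,4,3,5].getD a 0
noncomputable def RR0 : List Rule := [.sub [] [] 0 0,
  .bwd [4,0,3] 7 1 0]
noncomputable def RR1 : List Rule := [.bwd [0] 1 0 0]
noncomputable def RR2 : List Rule := [.sub [] [] 2 0,
  .bwd [4,2,3] 8 1 0]
noncomputable def RR3 : List Rule := [.bwd [0,0,0,0,3] 9 1 0]
noncomputable def RR4 : List Rule := [.bwd [3] 4 0 0]
noncomputable def RR : List (List Rule) := [RR0, RR1, RR2, RR3, RR4]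
noncomputable def rowp (j : ℕ) : ℕ := piece tT (nat_lit 3) (nat_lit 7) (nat_lit 3200) (Nat.pred (Nat.shiftLeft 1 (nat_lit 3200))) j
noncomputable def row (u : ℕ) : ℕ := rowOf rowp (nat_lit 7) (nat_lit 127) (nat_lit 25) u
noncomputable def jrowp (j : ℕ) : ℕ := piece tJ (nat_lit 3) (nat_lit 7) (nat_lit 2560) (Nat.pred (Nat.shiftLeft 1 (nat_lit 2560))) j
noncomputable def jrow (u : ℕ) : ℕ := rowOf jrowp (nat_lit 8) (nat_lit 255) (nat_lit 10) u
noncomputable def drowp (j : ℕ) : ℕ := piece tD (nat_lit 3) (nat_lit 7) (nat_lit 2816) (Nat.pred (Nat.shiftLeft 1 (nat_lit 2816))) j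
noncomputable def drow (u : ℕ) : ℕ := rowOf drowp (nat_lit 8) (nat_lit 255) (nat_lit 11) u
noncomputable def cert : PCert := ⟨(nat_lit 5), (nat_lit 5), (nat_lit 1), (nat_lit 5), (nat_lit 31), (nat_lit 30), (nat_lit 2), (nat_lit 1), (nat_lit 1), (nat_lit 2), (nat_lit 3), (nat_lit 2), (nat_lit 3), (nat_lit 2047), (nat_lit 0), row, jrow, drow, RR⟩
theorem params : cert.paramsOK = true := by decide +kernel
theorem rules : rulesOK rels subs iv cert.L cert.LL cert.RR = true := by decide +kernel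
theorem blk0 : cert.alive (nat_lit 0) (nat_lit 1) (nat_lit 2) = 0 := by decide +kernel
theorem up0 : cert.Upto 0 := PCert.upto_zero _
theorem up1 : cert.Upto 2 := up0.alive params blk0 (by decide)

theorem covers {G : Type*} [Group G] {g : ℕ → G} {H : Subgroup G}
    (h : Sat g H 5 iv rels subs) : Covers g 5 H 2 :=
  PCert.covers (p := cert) params rules (by decide +kernel) up1 h

end CL.S64.T111.Efus

namespace CL.S64.T111.Efusg
open CL.CE CL.K

noncomputable def tT0 : ℕ := nat_lit 0x1d6eee359e5aa41882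
noncomputable def tJ0 : ℕ := nat_lit 0x5699155
noncomputable def tD0 : ℕ := nat_lit 0x102800
noncomputable def tT : Tr := (.leaf tT0)
noncomputable def tJ : Tr := (.leaf tJ0)
noncomputable def tD : Tr := (.leaf tD0)

def rels : List (List ℕ) := [[0,1],
  [1,0],
  [2,2],
  [3,4],
  [4,3],
  [5,6],
  [6,5],
  [0,0,0,0,0,0,0,0],
  [2,0,2,0,0,0],
  [3,0,4,0],
  [3,2,4,2],
  [5,0,6,1,2],
  [5,2,6,2],
  [3,3,0,0,0,0],
  [5,5,0,0,0,0],
  [5,3,6,1,1,4,2]]
def subs : List (List ℕ) := [[0],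
  [1],
  [2],
  [3],
  [4]]
def iv (a : ℕ) : ℕ := [1,0,2,4,3,6,5,7].getD a 0
noncomputable def RR0 : List Rule := [.sub [] [] 0 0,
  .bwd [6,1,2,5] 11 1 0]
noncomputable def RR1 : List Rule := [.bwd [0] 1 0 0]
noncomputable def RR2 : List Rule := [.sub [] [] 2 0,
  .bwd [6,2,5] 12 1 0]
noncomputable def RR3 : List Rule := [.sub [] [] 3 0,
  .bwd [6,1,1,4,2,5] 15 1 0]
noncomputable def RR4 : List Rule := [.bwd [3] 4 0 0]
noncomputable def RR5 : List Rule := [.bwd [0,0,0,0,5] 14 1 0]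
noncomputable def RR6 : List Rule := [.bwd [5] 6 0 0]
noncomputable def RR : List (List Rule) := [RR0, RR1, RR2, RR3, RR4, RR5, RR6]
noncomputable def rowp (j : ℕ) : ℕ := piece tT (nat_lit 3) (nat_lit 7) (nat_lit 2240) (Nat.pred (Nat.shiftLeft 1 (nat_lit 2240))) j
noncomputable def row (u : ℕ) : ℕ := rowOf rowp (nat_lit 6) (nat_lit 63) (nat_lit 35) u
noncomputable def jrowp (j : ℕ) : ℕ := piece tJ (nat_lit 3) (nat_lit 7) (nat_lit 3584) (Nat.pred (Nat.shiftLeft 1 (nat_lit 3584))) j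
noncomputable def jrow (u : ℕ) : ℕ := rowOf jrowp (nat_lit 8) (nat_lit 255) (nat_lit 14) u
noncomputable def drowp (j : ℕ) : ℕ := piece tD (nat_lit 3) (nat_lit 7) (nat_lit 2816) (Nat.pred (Nat.shiftLeft 1 (nat_lit 2816))) j
noncomputable def drow (u : ℕ) : ℕ := rowOf drowp (nat_lit 8) (nat_lit 255) (nat_lit 11) u
noncomputable def cert : PCert := ⟨(nat_lit 7), (nat_lit 7), (nat_lit 1), (nat_lit 5), (nat_lit 31), (nat_lit 30), (nat_lit 2), (nat_lit 1), (nat_lit 1), (nat_lit 2), (nat_lit 3), (nat_lit 2), (nat_lit 3), (nat_lit 2047), (nat_lit 0), row, jrow, drow, RR⟩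
theorem params : cert.paramsOK = true := by decide +kernel
theorem rules : rulesOK rels subs iv cert.L cert.LL cert.RR = true := by decide +kernel
theorem blk0 : cert.alive (nat_lit 0) (nat_lit 1) (nat_lit 2) = 0 := by decide +kernel
theorem up0 : cert.Upto 0 := PCert.upto_zero _
theorem up1 : cert.Upto 2 := up0.alive params blk0 (by decide)

theorem covers {G : Type*} [Group G] {g : ℕ → G} {H : Subgroup G}
    (h : Sat g H 7 iv rels subs) : Covers g 7 H 2 :=
  PCert.covers (p := cert) params rules (by decide +kernel) up1 h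

end CL.S64.T111.Efusg

namespace CL.S64.T111
open CL.CE CL.K CL.Reg

def iv (a : ℕ) : ℕ := [1,0,2,4,3,6,5].getD a a
def Rels : List (List ℕ) := [[0,1], [1,0], [2,2], [3,4], [4,3], [5,6], [6,5], [0,0,0,0,0,0,0,0], [2,0,2,0,0,0], [3,0,4,0], [3,2,4,2], [5,0,6,1,2], [5,2,6,2], [3,3,0,0,0,0], [5,5,0,0,0,0], [5,3,6,1,1,4,2]]

theorem idx_f {G : Type*} [Group G] {g : ℕ → G} (h : Pres g iv Rels) :
    IdxLe (gen g []) (gen g [[0], [1]]) 8 :=
  h.idxLe _ _ CL.S64.T111.Ef.covers (by decide +kernel)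

theorem le_f {G : Type*} [Group G] {g : ℕ → G} (h : Pres g iv Rels) :
    CardLe (gen g [[0], [1]]) 8 :=
  (idx_f h).cardLe (cardLe_nil g) (by norm_num)

theorem idx_fu {G : Type*} [Group G] {g : ℕ → G} (h : Pres g iv Rels) :
    IdxLe (gen g [[0], [1]]) (gen g [[0], [1], [2]]) 2 :=
  h.idxLe _ _ CL.S64.T111.Efu.covers (by decide +kernel)

theorem le_fu {G : Type*} [Group G] {g : ℕ → G} (h : Pres g iv Rels) :
    CardLe (gen g [[0], [1], [2]]) 16 :=
  (idx_fu h).cardLe (le_f h) (by norm_num)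

theorem idx_fus {G : Type*} [Group G] {g : ℕ → G} (h : Pres g iv Rels) :
    IdxLe (gen g [[0], [1], [2]]) (gen g [[0], [1], [2], [3], [4]]) 2 :=
  h.idxLe _ _ CL.S64.T111.Efus.covers (by decide +kernel)

theorem le_fus {G : Type*} [Group G] {g : ℕ → G} (h : Pres g iv Rels) :
    CardLe (gen g [[0], [1], [2], [3], [4]]) 32 :=
  (idx_fus h).cardLe (le_fu h) (by norm_num)

theorem idx_fusg {G : Type*} [Group G] {g : ℕ → G} (h : Pres g iv Rels) :
    IdxLe (gen g [[0], [1], [2], [3], [4]]) (gen g [[0], [1], [2], [3], [4], [5], [6]]) 2 :=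
  h.idxLe _ _ CL.S64.T111.Efusg.covers (by decide +kernel)

theorem le_fusg {G : Type*} [Group G] {g : ℕ → G} (h : Pres g iv Rels) :
    CardLe (gen g [[0], [1], [2], [3], [4], [5], [6]]) 64 :=
  (idx_fusg h).cardLe (le_fus h) (by norm_num)

noncomputable def H_T : ℕ := nat_lit 0x81f929974b1f829926d6b9a5658831e6599865fcb85d69e872fd965e89dbbb7b2b4d2bfd6ebb124eef1c450761c7a7d0461772ee0cb154f456fb1c8f5505ffa6471ba0d4f4d4d3366fcd7430dddcf64a5b7273122ca7a2e5feca2e27b883a30d28b51a3b8e5424bfd6e782542be5d86565da3c9c33ffe38954e23beb376220eebbc217bcf4e23e40bf7c20efd12b3c3efc850f49341154868f56fb92a07509df63479fefc71bddaeffe187f37bd53eebd39c6254db7306a05130cfbe31105cf0eb9c861c416a8eda83f3d1d3303abdf0648debba8316bd3be83a84b3589ed358e90dd86bb2d0e48c2e397b36428f9e22c18db78c2d45977d828f41267a2d740a4aa7a259a9b42b41c72858cc1b72c5d670bafb41b2616fb81b6b94485db2b06aa689e69640636807e06628406a07d879d6dc6805cb45c6c06962906585d601551349140f38034c2ca240207185103081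
noncomputable def H_W : ℕ := nat_lit 0x746646563463743643562462742642532432171561461161741641441531431231131711611511411311111027017056046026016074064044073063053043023013072062052042032022071061051041031011007006005004003002001000
noncomputable def H_I : ℕ := nat_lit 0xfbfefaf7cc72bafd74c38e73db78ecaea927a259a9b4c49c6cd4e07da61959724f7614115087a228b54e1871050c1080
noncomputable def H_dat : Dat := ⟨nat_lit 64, nat_lit 7, nat_lit 3, [1,0,2,4,3,6,5], tb (nat_lit 7) (nat_lit 6) (nat_lit 63) H_T,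
  fld (nat_lit 12) (nat_lit 4095) H_W, fld (nat_lit 6) (nat_lit 63) H_I⟩
theorem H_chk : H_dat.Chk Rels :=
  Dat.chk_of (a := 8) (b := 8) (by decide +kernel) rfl (by decide +kernel)
theorem H_good : H_dat.Good Rels := H_chk.good fun _ hg => le_fusg hg
/-- the group of the table -/
abbrev H : Type := RG H_dat H_good
theorem H_hom {G : Type*} [Group G] {g : ℕ → G} (hg : Pres g iv Rels) :
    ∃ φ : H →* G, φ.range = gen g [[0], [1], [2], [3], [4], [5], [6]] ∧
      ∀ w : List ℕ, ltAll 7 w = true → φ (RG.wd H_good w) = ev g w :=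
  RG.exists_hom hg fun _ hg' => le_fusg hg'

noncomputable def f : H := RG.mk' H_good (nat_lit 1)
noncomputable def u : H := RG.mk' H_good (nat_lit 3)
noncomputable def s : H := RG.mk' H_good (nat_lit 4)
noncomputable def g : H := RG.mk' H_good (nat_lit 6)
noncomputable def z : H := RG.mk' H_good (nat_lit 26)
theorem wd_f : RG.wd H_good [0] = f := by decide +kernel
theorem wd_u : RG.wd H_good [2] = u := by decide +kernel
theorem wd_s : RG.wd H_good [3] = s := by decide +kernel
theorem wd_g : RG.wd H_good [5] = g := by decide +kernel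

end CL.S64.T111

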