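/- Data for the Sylow 2-subgroup of `M12` (generated). -/
import Cfsg.Agent.REC.S64.Kill

set_option autoImplicit false
set_option maxRecDepth 100000
set_option synthInstance.maxSize 4000

namespace CL.S64

open Subgroup CL.CE CL.A10 CL.Reg CL.K CL.E32 CL.MSS

/-- the endomorphism with given images of four generators, through a table of words -/
def al4 {H : Type*} [Group H] (W : H → List ℕ) (a b c d : H) (w : H) : H := ev (lets [a, b, c, d]) (W w)

theorem acts_al4 {G H : Type*} [Group G] [Group H] {f : H →* G} {h : G} {P : H → Prop} {W : H → List ℕ}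
    {a b c d a' b' c' d' : H} (hW : ∀ w, P w → al4 W a b c d w = w) (ha : h * f a * h⁻¹ = f a')
    (hb : h * f b * h⁻¹ = f b') (hc : h * f c * h⁻¹ = f c') (hd : h * f d * h⁻¹ = f d') :
    Acts f P h (al4 W a' b' c' d') := fun w hw => by
  have := map_ev ((MulAut.conj h).toMonoidHom.comp f) (lets [a, b, c, d]) (W w)
  rw [show ev (lets [a, b, c, d]) (W w) = w from hW w hw] at this
  rw [al4, map_ev f (lets [a', b', c', d'])]
  refine this.trans (congrArg (ev · (W w)) (funext fun i => ?_))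
  match i with
  | 0 => exact ha
  | 1 => exact hb
  | 2 => exact hc
  | 3 => exact hd
  | _ + 4 => simp [lets]

theorem al4_mem {H : Type*} [Group H] (W : H → List ℕ) {K : Subgroup H} {a b c d : H} (ha : a ∈ K)
    (hb : b ∈ K) (hc : c ∈ K) (hd : d ∈ K) (w : H) : al4 W a b c d w ∈ K := ev_mem fun i _ =>
  match i with
  | 0 => ha
  | 1 => hb
  | 2 => hc
  | 3 => hd
  | _ + 4 => by simp [lets]

namespace T000

noncomputable def a : H := RG.mk' H_good (nat_lit 28)
noncomputable def b : H := RG.mk' H_good (nat_lit 6)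
noncomputable def c : H := RG.mk' H_good (nat_lit 32)
noncomputable def d : H := RG.mk' H_good (nat_lit 23)
noncomputable def p : H := RG.mk' H_good (nat_lit 8)
noncomputable def p' : H := RG.mk' H_good (nat_lit 29)
noncomputable def q : H := RG.mk' H_good (nat_lit 5)
noncomputable def q' : H := RG.mk' H_good (nat_lit 25)
noncomputable def W (w : H) : List ℕ := force (fld 24 16777215 (nat_lit 0x23011234000000000000011124000000000013000000000000000134000000000000000000000000001114000011001134000000000113000000000012000000000111001123000034000000001112000123000000000000000003111234011134000234000001000024000114011123000000000004000000000000000000000000000000001234000000000000000000000000000014000000000112000000000124000000000002001113000000001124000000000000000000) w.val) (dig 6)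
noncomputable def x0 (w : H) : H := RG.mk' H_good (fld 8 255 (nat_lit 0x3a23000035001b00003e000000003d2f2c001a0028000a0820001c30000017382719061f2e0c0026000000000005000000001d002a001e0024030011000000) w.val)
noncomputable def x1 (w : H) : H := RG.mk' H_good (fld 8 255 (nat_lit 0x353000003e001f00003a00000000232f1a002e000a002a1e1700063d0000261b080c24382c1d0020000000000003000000001900280027001c110005000000) w.val)
def Q : Subgroup H where
  carrier := {w | Nat.testBit (nat_lit 0x6521d5d9fe821569) w.val = true}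
  mul_mem' := fun {v w} hv hw => (by decide +kernel : ∀ v : H, Nat.testBit (nat_lit 0x6521d5d9fe821569) v.val = true →
    ∀ w : H, Nat.testBit (nat_lit 0x6521d5d9fe821569) w.val = true → Nat.testBit (nat_lit 0x6521d5d9fe821569) (v * w).val = true) v hv w hw
  one_mem' := (by decide +kernel : Nat.testBit (nat_lit 0x6521d5d9fe821569) (1 : H).val = true)
  inv_mem' := fun {v} hv => (by decide +kernel : ∀ v : H, Nat.testBit (nat_lit 0x6521d5d9fe821569) v.val = true →
    Nat.testBit (nat_lit 0x6521d5d9fe821569) (v⁻¹).val = true) v hv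

instance : DecidablePred (· ∈ Q) := fun w => inferInstanceAs (Decidable (Nat.testBit (nat_lit 0x6521d5d9fe821569) w.val = true))

theorem card_Q : Nat.card Q = 32 := (RG.ncard_eq (· ∈ Q)).trans (by decide +kernel)

def E : Subgroup H where
  carrier := {w | Nat.testBit (nat_lit 0x805280040d810459) w.val = true}
  mul_mem' := fun {v w} hv hw => (by decide +kernel : ∀ v : H, Nat.testBit (nat_lit 0x805280040d810459) v.val = true →
    ∀ w : H, Nat.testBit (nat_lit 0x805280040d810459) w.val = true → Nat.testBit (nat_lit 0x805280040d810459) (v * w).val = true) v hv w hw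
  one_mem' := (by decide +kernel : Nat.testBit (nat_lit 0x805280040d810459) (1 : H).val = true)
  inv_mem' := fun {v} hv => (by decide +kernel : ∀ v : H, Nat.testBit (nat_lit 0x805280040d810459) v.val = true →
    Nat.testBit (nat_lit 0x805280040d810459) (v⁻¹).val = true) v hv

instance : DecidablePred (· ∈ E) := fun w => inferInstanceAs (Decidable (Nat.testBit (nat_lit 0x805280040d810459) w.val = true))

theorem card_E : Nat.card E = 16 := (RG.ncard_eq (· ∈ E)).trans (by decide +kernel)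

def V : Subgroup H where
  carrier := {w | Nat.testBit (nat_lit 0x100800088020029) w.val = true}
  mul_mem' := fun {v w} hv hw => (by decide +kernel : ∀ v : H, Nat.testBit (nat_lit 0x100800088020029) v.val = true →
    ∀ w : H, Nat.testBit (nat_lit 0x100800088020029) w.val = true → Nat.testBit (nat_lit 0x100800088020029) (v * w).val = true) v hv w hw
  one_mem' := (by decide +kernel : Nat.testBit (nat_lit 0x100800088020029) (1 : H).val = true)
  inv_mem' := fun {v} hv => (by decide +kernel : ∀ v : H, Nat.testBit (nat_lit 0x100800088020029) v.val = true →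
    Nat.testBit (nat_lit 0x100800088020029) (v⁻¹).val = true) v hv

instance : DecidablePred (· ∈ V) := fun w => inferInstanceAs (Decidable (Nat.testBit (nat_lit 0x100800088020029) w.val = true))

theorem card_V : Nat.card V = 8 := (RG.ncard_eq (· ∈ V)).trans (by decide +kernel)

def U : Subgroup H where
  carrier := {w | Nat.testBit (nat_lit 0x800008000009) w.val = true}
  mul_mem' := fun {v w} hv hw => (by decide +kernel : ∀ v : H, Nat.testBit (nat_lit 0x800008000009) v.val = true →
    ∀ w : H, Nat.testBit (nat_lit 0x800008000009) w.val = true → Nat.testBit (nat_lit 0x800008000009) (v * w).val = true) v hv w hw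
  one_mem' := (by decide +kernel : Nat.testBit (nat_lit 0x800008000009) (1 : H).val = true)
  inv_mem' := fun {v} hv => (by decide +kernel : ∀ v : H, Nat.testBit (nat_lit 0x800008000009) v.val = true →
    Nat.testBit (nat_lit 0x800008000009) (v⁻¹).val = true) v hv

instance : DecidablePred (· ∈ U) := fun w => inferInstanceAs (Decidable (Nat.testBit (nat_lit 0x800008000009) w.val = true))

theorem card_U : Nat.card U = 4 := (RG.ncard_eq (· ∈ U)).trans (by decide +kernel)

def R : Subgroup H where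
  carrier := {w | Nat.testBit (nat_lit 0x9bfe800ccfa70479) w.val = true}
  mul_mem' := fun {v w} hv hw => (by decide +kernel : ∀ v : H, Nat.testBit (nat_lit 0x9bfe800ccfa70479) v.val = true →
    ∀ w : H, Nat.testBit (nat_lit 0x9bfe800ccfa70479) w.val = true → Nat.testBit (nat_lit 0x9bfe800ccfa70479) (v * w).val = true) v hv w hw
  one_mem' := (by decide +kernel : Nat.testBit (nat_lit 0x9bfe800ccfa70479) (1 : H).val = true)
  inv_mem' := fun {v} hv => (by decide +kernel : ∀ v : H, Nat.testBit (nat_lit 0x9bfe800ccfa70479) v.val = true →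
    Nat.testBit (nat_lit 0x9bfe800ccfa70479) (v⁻¹).val = true) v hv

instance : DecidablePred (· ∈ R) := fun w => inferInstanceAs (Decidable (Nat.testBit (nat_lit 0x9bfe800ccfa70479) w.val = true))

theorem card_R : Nat.card R = 32 := (RG.ncard_eq (· ∈ R)).trans (by decide +kernel)

def M1 : Subgroup H where
  carrier := {w | Nat.testBit (nat_lit 0x7a8cd0c32ce4cccf) w.val = true}
  mul_mem' := fun {v w} hv hw => (by decide +kernel : ∀ v : H, Nat.testBit (nat_lit 0x7a8cd0c32ce4cccf) v.val = true →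
    ∀ w : H, Nat.testBit (nat_lit 0x7a8cd0c32ce4cccf) w.val = true → Nat.testBit (nat_lit 0x7a8cd0c32ce4cccf) (v * w).val = true) v hv w hw
  one_mem' := (by decide +kernel : Nat.testBit (nat_lit 0x7a8cd0c32ce4cccf) (1 : H).val = true)
  inv_mem' := fun {v} hv => (by decide +kernel : ∀ v : H, Nat.testBit (nat_lit 0x7a8cd0c32ce4cccf) v.val = true →
    Nat.testBit (nat_lit 0x7a8cd0c32ce4cccf) (v⁻¹).val = true) v hv

instance : DecidablePred (· ∈ M1) := fun w => inferInstanceAs (Decidable (Nat.testBit (nat_lit 0x7a8cd0c32ce4cccf) w.val = true))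

theorem card_M1 : Nat.card M1 = 32 := (RG.ncard_eq (· ∈ M1)).trans (by decide +kernel)

def M2 : Subgroup H where
  carrier := {w | Nat.testBit (nat_lit 0x1e8daf301cbc3749) w.val = true}
  mul_mem' := fun {v w} hv hw => (by decide +kernel : ∀ v : H, Nat.testBit (nat_lit 0x1e8daf301cbc3749) v.val = true →
    ∀ w : H, Nat.testBit (nat_lit 0x1e8daf301cbc3749) w.val = true → Nat.testBit (nat_lit 0x1e8daf301cbc3749) (v * w).val = true) v hv w hw
  one_mem' := (by decide +kernel : Nat.testBit (nat_lit 0x1e8daf301cbc3749) (1 : H).val = true)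
  inv_mem' := fun {v} hv => (by decide +kernel : ∀ v : H, Nat.testBit (nat_lit 0x1e8daf301cbc3749) v.val = true →
    Nat.testBit (nat_lit 0x1e8daf301cbc3749) (v⁻¹).val = true) v hv

instance : DecidablePred (· ∈ M2) := fun w => inferInstanceAs (Decidable (Nat.testBit (nat_lit 0x1e8daf301cbc3749) w.val = true))

theorem card_M2 : Nat.card M2 = 32 := (RG.ncard_eq (· ∈ M2)).trans (by decide +kernel)

/-- conjugate in the model -/
abbrev Cj (v w : H) : Prop := ∃ k, k * v * k⁻¹ = w
/-- equal modulo the centre -/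
abbrev Ez (v w : H) : Prop := v = w ∨ v = w * z

theorem card_H : Nat.card H = 64 := RG.card
theorem zc : ∀ v, v * z = z * v := f12.1
theorem zz : z * z = 1 := f12.2.1.1
theorem z1 : z ≠ 1 := f12.2.1.2.1
theorem hW : ∀ w ∈ Q, al4 W a b c d w = w := by decide +kernel
theorem sqQ : ∀ w, w * w = z → w ∈ Q := by decide +kernel
theorem sq4 : a * a = z ∧ b * b = z ∧ c * c = z ∧ d * d = z := by decide +kernel
theorem Q_comm : ∀ v ∈ Q, ∀ w ∈ Q, Ez (v * w) (w * v) := by decide +kernel
theorem Q_sq : ∀ v ∈ Q, v * v = 1 ∨ v * v = z := by decide +kernel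
theorem Q_cen : ∀ v ∈ Q, (∀ w ∈ Q, v * w = w * v) → v = 1 ∨ v = z := by decide +kernel
theorem Q_norm : ∀ k, ∀ v ∈ Q, k * v * k⁻¹ ∈ Q := by decide +kernel
theorem Q_mem : z ∈ Q ∧ u ∈ Q ∧ p ∈ Q ∧ p' ∈ Q ∧ q ∈ Q ∧ q' ∈ Q ∧ s ∉ Q := by decide +kernel
theorem Q_dec : ∀ w ∈ Q, ∃ v v', w = v * v * (v' * v') ∨ w = p * (v * v * (v' * v')) ∨
    w = p' * (v * v * (v' * v')) ∨ w = p * (p' * (v * v * (v' * v'))) := by decide +kernel
theorem q'_dec : ∃ v v', q' = p * (p' * (v * v * (v' * v'))) := by decide +kernel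
theorem Q_out : ∀ w, w ∉ Q → w * s ∈ Q := by decide +kernel
theorem E_gen : ∀ e ∈ E, ∃ i k : Fin 2, ∃ j : Fin 4, e = s ^ i.val * (b ^ j.val * d ^ k.val) := by
  decide +kernel
theorem E_s : ∀ e ∈ E, Ez (e * s) (s * e) := by decide +kernel
theorem E_norm : ∀ k, ∀ e ∈ E, k * e * k⁻¹ ∈ E := by decide +kernel
theorem E_mem : s ∈ E ∧ b ∈ E ∧ d ∈ E ∧ z ∈ E := by decide +kernel
theorem invs : ∀ w : H, w * w = 1 → w = 1 ∨ w = z ∨ Cj w u ∨ Cj w q ∨ Cj w s ∨ Cj w p ∨ Cj w p' ∨
    Cj w q' := by decide +kernel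
theorem invs_Q : ∀ w ∈ Q, w * w = 1 → w ∈ V ∨ Cj w p ∨ Cj w p' ∨ Cj w q' := by decide +kernel
theorem invs_out : ∀ w, w ∉ Q → w * w = 1 → Cj w s := by decide +kernel
theorem invs_z : ∀ w : H, w * w = 1 → w = 1 ∨ w = z ∨ Cj w (z * w) := by decide +kernel
theorem invs_V : ∀ w ∈ V, w * w = 1 ∧ (w = 1 ∨ w = z ∨ Cj w u ∨ Cj w q) := by decide +kernel
theorem V_comm : ∀ v ∈ V, ∀ w ∈ V, v * w = w * v := by decide +kernel
theorem V_le : ∀ v ∈ V, v ∈ Q := by decide +kernel
theorem U_le : ∀ v ∈ U, v ∈ V := by decide +kernel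
theorem U_cases : ∀ v ∈ U, v = 1 ∨ v = z ∨ v = u ∨ v = u * z := by decide +kernel
theorem U_mem : z ∈ U ∧ u ∈ U := by decide +kernel
theorem invs_M1 : ∀ w ∈ M1, w * w = 1 → w = 1 ∨ w = z ∨ Cj w u ∨ Cj w p' := by decide +kernel
theorem invs_M2 : ∀ w ∈ M2, w * w = 1 → w = 1 ∨ w = z ∨ Cj w u ∨ Cj w p := by decide +kernel
theorem invs_R : ∀ w ∈ R, w * w = 1 → w = 1 ∨ w = z ∨ Cj w u ∨ Cj w q ∨ Cj w q' ∨ Cj w s := by
  decide +kernel
theorem cent_le : ∀ w, w * w = 1 → w = 1 ∨ w = z ∨ Cj w u ∨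
    RG.count (fun v => v * w = w * v) ≤ RG.count (fun v => v * p = p * v) := by decide +kernel
theorem sq_cent : ∀ w, w = p' ∨ w = q ∨ w = q' → ∃ v, Cm w v ∧ v * v = z := by decide +kernel
theorem sq_p : ∀ v, Cm p v → v * v = 1 ∨ v * v = z := by decide +kernel
theorem inv_facts : u * u = 1 ∧ u ≠ 1 ∧ p * p = 1 ∧ p ≠ 1 ∧ p' * p' = 1 ∧ q * q = 1 ∧ q' * q' = 1 ∧
    s * s = 1 ∧ s ≠ 1 := by decide +kernel
theorem qq : Cm u q ∧ Cm u q' ∧ q * q' * (q * q') = z := by decide +kernel

theorem auts : ∀ a', a' * a' = z → ∀ b', b' * b' = z → a' * b' ≠ b' * a' → ∀ c', c' * c' = z →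
    a' * c' = c' * a' → b' * c' = c' * b' → ∀ d', d' * d' = z → c' * d' ≠ d' * c' → a' * d' = d' * a' →
    b' * d' = d' * b' → ¬ Cj (al4 W a' b' c' d' u) p → ¬ Cj (al4 W a' b' c' d' u) p' →
    ¬ Cj (al4 W a' b' c' d' u) q' →
    (∀ w ∈ [a, b, c, d], Ez ((al4 W a' b' c' d')^[12] w) w) ∧
    ((∀ w ∈ [a, b, c, d], Ez ((al4 W a' b' c' d')^[3] w) w) →
      (Ez a' a ∧ Ez b' b ∧ Ez c' c ∧ Ez d' d) ∨ (Ez a' (x0 a) ∧ Ez b' (x0 b) ∧ Ez c' (x0 c) ∧ Ez d' (x0 d)) ∨
      (Ez a' (x1 a) ∧ Ez b' (x1 b) ∧ Ez c' (x1 c) ∧ Ez d' (x1 d))) := by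
  decide +kernel

theorem rels : a * b ≠ b * a ∧ a * c = c * a ∧ b * c = c * b ∧ c * d ≠ d * c ∧ a * d = d * a ∧
    b * d = d * b := by decide +kernel
theorem x_al : ∀ w ∈ Q, al4 W (x0 a) (x0 b) (x0 c) (x0 d) w = x0 w ∧
    al4 W (x1 a) (x1 b) (x1 c) (x1 d) w = x1 w := by decide +kernel
theorem x_facts : ∀ w ∈ Q, x0 w ∈ Q ∧ x1 w ∈ Q ∧ x0 (x0 w) = x1 w ∧ x0 (x1 w) = w ∧ x1 (x0 w) = w ∧
    x1 (x1 w) = x0 w ∧ (Ez (x0 w) w → w = 1 ∨ w = z) ∧ (Ez (x1 w) w → w = 1 ∨ w = z) ∧
    Ez (s * x0 (s⁻¹ * x0 w * s) * s⁻¹) w := by decide +kernel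
theorem x_u : Cj (x0 u) q := by decide +kernel
theorem pp : ¬ Ez p' p ∧ ¬ Ez (s * p' * s⁻¹) p := by decide +kernel

theorem exists_twist : ∃ σ : H →* H, Function.Bijective σ ∧ Cj (σ p) p ∧ Cj (σ q') q := by
  obtain ⟨σ, e1, ⟨e2, e3, e4⟩, -⟩ := exists_hom (f' := f) (u' := u) (s' := s * (f * f)) (g' := q')
    (by decide +kernel) (by decide +kernel) (by decide +kernel) (by decide +kernel)
  refine ⟨σ, Finite.injective_iff_bijective.1 (inj_of (by rw [e1]; decide +kernel)), ?_, ?_⟩
  · rw [show p = s * f by decide +kernel, map_mul, e1, e3]; decide +kernel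
  · rw [show q' = g * (f * f) by decide +kernel, map_mul, map_mul, e1, e4]; decide +kernel

end T000

end CL.S64
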